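import Cfsg.Agent.Fr.Klein
import Cfsg.Agent.Fr.Trans
import Cfsg.Agent.Grp.SylowEA

/-!
# Abelian Sylow `2`-subgroups with a nondegenerate pairing (project S4562)
-/

set_option autoImplicit false
set_option linter.unusedSectionVars false
set_option linter.unusedVariables false

namespace Cfsg.Fr

open Subgroup Finset

universe u v

variable {G : Type u} [Group G] [Finite G] {M : Type v} [CommGroup M]

local notation "C(" Q ")" => Subgroup.centralizer (SetLike.coe (Q : Subgroup _))
local notation "N(" Q ")" => Subgroup.normalizer (SetLike.coe (Q : Subgroup _))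

/-- A strongly embedded subgroup forces one class of involutions. -/
theorem isConj_of_strongly_embedded (P : Sylow 2 G) {L : Subgroup G} (hL : L ≠ ⊤)
    (h : ∀ Q, Q ≤ (P : Subgroup G) → Q ≠ ⊥ → N(Q) ≤ L) {u v : G} (hu : u ∈ (P : Subgroup G))
    (hv : v ∈ (P : Subgroup G)) (hu2 : orderOf u = 2) (hv2 : orderOf v = 2) : IsConj u v := by
  have hu1 : u ≠ 1 := by rintro rfl; simp at hu2
  have hPL : (P : Subgroup G) ≤ L :=
    le_normalizer.trans (h _ le_rfl fun e => hu1 (mem_bot.1 (e ▸ hu)))
  have hC : ∀ j ∈ L, orderOf j = 2 → centralizer {j} ≤ L := fun j hj hj2 x hx => by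
    obtain ⟨g, hg, e⟩ := exists_conj_mem_of_not_dvd_relIndex P.isPGroup'
      (fun e => P.not_dvd_index (e.trans (relIndex_dvd_index_of_le hPL))) hj (k := 1)
      (by rw [pow_one, ← hj2, pow_orderOf_eq_one])
    have h1 : g * x * g⁻¹ ∈ L := h (zpowers (g * j * g⁻¹)) (zpowers_le.2 e) (by
      rw [Ne, zpowers_eq_bot, conj_eq_one_iff]; rintro rfl; simp at hj2)
      (Agent.FT.cent1_le_norm_zpowers _ (mem_centralizer_singleton_iff.2 (by
        rw [conj_mul, conj_mul, mem_centralizer_singleton_iff.1 hx])))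
    simpa [mul_assoc] using mul_mem (mul_mem (inv_mem hg) h1) hg
  obtain ⟨g, hg⟩ : ∃ g, g * u * g⁻¹ ∉ L := by
    by_contra! hg
    have h1 : normalClosure {u} ≤ L := (closure_le _).2 fun x hx => by
      obtain ⟨_, rfl, e⟩ := Group.mem_conjugatesOfSet_iff.1 hx
      obtain ⟨c, rfl⟩ := isConj_iff.1 e
      exact hg c
    refine hL (eq_top_iff.2 ((normalizer_sylow_inf_sup_eq_top P (normalClosure {u})).ge.trans
      (sup_le (h _ inf_le_left fun e => hu1 (mem_bot.1 (e ▸ ⟨hu, subset_normalClosure rfl⟩))) h1)))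
  have hs : g * u * g⁻¹ * (g * u * g⁻¹) = 1 := by
    rw [conj_mul, mul_self_of_orderOf_eq_two hu2]; simp
  by_cases hr : IsPRegular 2 (v * (g * u * g⁻¹))
  · exact (isConj_iff.2 ⟨g, rfl⟩ : IsConj u _).trans
      (isConj_of_mul_self_of_isPRegular (mul_self_of_orderOf_eq_two hv2) hs hr)
  · obtain ⟨j, hj, hj2⟩ := exists_mem_zpowers_orderOf_two (not_not.1 hr)
    obtain ⟨h1, h2⟩ := mem_centralizer_of_mem_zpowers_mul (mul_self_of_orderOf_eq_two hv2) hs hj2 hj
    exact (hg (hC j (hC v (hPL hv) hv2 (mem_centralizer_singleton_iff.2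
      (mem_centralizer_singleton_iff.1 h1).symm)) hj2 h2)).elim

theorem Nondeg.commutator {β : G → G → M} (hβ : IsPairing β) (P : Sylow 2 G)
    (hab : (P : Subgroup G) ≤ C((P : Subgroup G))) (hnd : Nondeg β P) :
    Nondeg (fun a b : commutator G => β a b) (sylowInfNormal P (commutator G)) := by
  haveI := le_centralizer_iff_isMulCommutative.1 hab
  have hc : ∀ x ∈ (P : Subgroup G), ∀ y ∈ (P : Subgroup G), Commute x y :=
    fun x hx y hy => hab hy x hx
  intro x hx hx1
  rw [coe_sylowInfNormal] at hx ⊢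
  replace hx : (x : G) ∈ (P : Subgroup G) := hx
  by_contra! h
  refine hx1 (Subtype.ext (mem_bot.1 (commutator_inf_sylow_inf_centralizer_normalizer P ▸
    ⟨⟨x.2, hx⟩, fun n hn => ?_⟩)))
  have hx' : n⁻¹ * x * n ∈ (P : Subgroup G) := (mem_normalizer_iff''.1 hn _).1 hx
  by_contra hne
  obtain ⟨y, hy, -, h1⟩ := hnd _ (mul_mem hx' (inv_mem hx)) fun e => hne (by
    rw [mul_inv_eq_one, mul_assoc, inv_mul_eq_iff_eq_mul] at e; exact e.symm)
  have hy' : n * y * n⁻¹ ∈ (P : Subgroup G) := (mem_normalizer_iff.1 hn _).1 hy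
  have h2 := h ⟨n * y * n⁻¹ * y⁻¹, commutator_mem_commutator (mem_top n) (mem_top y)⟩
    (mul_mem hy' (inv_mem hy)) (Subtype.ext (hc _ hx _ (mul_mem hy' (inv_mem hy))))
  have h3 := hβ.cj n _ _ (hc _ hx' _ hy)
  rw [show n * (n⁻¹ * x * n) * n⁻¹ = x by group] at h3
  change β x (n * y * n⁻¹ * y⁻¹) = 1 at h2
  rw [hβ.mul_right _ _ _ (hc _ hx _ hy') (hc _ hx _ (inv_mem hy)), h3,
    hβ.inv_right (hc _ hx _ hy)] at h2
  rw [hβ.mul_left _ _ _ (hc _ hx' _ hy) (hc _ (inv_mem hx) _ hy), hβ.inv_left (hc _ hx _ hy)] at h1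
  exact h1 h2

theorem card_mul_self_eq (P : Subgroup G) (hab : IsMulCommutative P) :
    Nat.card {x : P // x * x = 1} = 2 ^ Agent.FT.rP 2 P := by
  have hΩ := Agent.FT.isPElem_omegaOne (p := 2) hab
  rw [← hΩ.card]
  exact (Nat.card_congr ⟨fun x => ⟨⟨x.1, hΩ.le x.2⟩, Subtype.ext (by
    simpa [pow_two] using hΩ.elem.2 x.1 x.2)⟩, fun x => ⟨x.1.1, Agent.FT.mem_omegaOne x.1.2 (by
      simpa [pow_two] using congrArg Subtype.val x.2)⟩, fun _ => rfl, fun _ => rfl⟩).symm

theorem card_invol_add_one (H : Type*) [Group H] [Finite H] :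
    Nat.card {x : H | orderOf x = 2} + 1 = Nat.card {x : H // x * x = 1} := by
  classical
  letI := Fintype.ofFinite H
  rw [Nat.card_eq_fintype_card, Nat.card_eq_fintype_card, Fintype.card_subtype,
    Fintype.card_subtype, ← card_insert_of_notMem (a := 1) (by simp)]
  congr 1
  ext x
  simp only [mem_insert, mem_filter, mem_univ, true_and, Set.mem_ofPred_eq]
  refine ⟨fun h => ?_, fun h => or_iff_not_imp_left.2 (orderOf_eq_two_of_mul_self h)⟩
  rcases h with rfl | h
  exacts [mul_one 1, mul_self_of_orderOf_eq_two h]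

theorem solvable_of_abelian (n : ℕ) : ∀ (G : Type u) [Group G] [Finite G] (A : Subgroup G)
    (β : G → G → M) (P : Sylow 2 G), Nat.card G = n → Ctr A → InvBad A → IsPairing β →
    (P : Subgroup G) ≤ C((P : Subgroup G)) → Nondeg β P → Group.IsSolvable G := by
  induction n using Nat.strong_induction_on with
  | _ n ih =>
  intro G _ _ A β P hn hA h hβ hab hnd
  haveI hab' := le_centralizer_iff_isMulCommutative.1 hab
  by_cases hG : commutator G = ⊤
  swap
  · haveI := ih _ (hn ▸ card_lt_of_ne_top hG) (commutator G) _ _ (sylowInfNormal P _) rfl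
      (hA.subgroupOf _) (h.normal hA _) (hβ.comp (commutator G).subtype)
      (fun x hx y hy => Subtype.ext (hab hx y hy)) (hnd.commutator hβ P hab)
    exact isSolvable_of_commutator
  by_contra hs
  have hN : ¬ HasNormalPComplement 2 G := fun h => hs h.isSolvable_two
  rcases lt_trichotomy (Agent.FT.rP 2 (P : Subgroup G)) 2 with hr | hr | hr
  · haveI := Agent.FT.abelian_pgroup_rank1_cyclic P.isPGroup' hab' (by omega)
    exact hN (hasNormalPComplement_two_of_isCyclic P)
  · have h3 : Nat.card {x : (P : Subgroup G) | orderOf x = 2} = 3 := by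
      have := card_invol_add_one (P : Subgroup G)
      rw [card_mul_self_eq _ hab', hr] at this
      omega
    letI := Fintype.ofFinite (P : Subgroup G)
    have hE : ¬ 2 ∣ Nat.card (autOf (P : Subgroup G).subtype N((P : Subgroup G))) := by
      rw [card_autOf_subtype le_rfl]
      exact fun e => P.not_dvd_index ((e.trans (relIndex_dvd_of_le_left _ hab)).trans
        (relIndex_dvd_index_of_le le_normalizer))
    have hf := Exc.isFree_of_three_invol P.isPGroup' hab'.is_comm.comm h3 hE
    have hfree := forall_of_isFree_autOf (P : Subgroup G).subtype_injective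
      (T := N((P : Subgroup G))) (by rw [range_subtype]) hf
    rw [range_subtype] at hfree
    have hF : AbFree P := ⟨hab, fun y hy h1 g hg => hfree g hg.2 y hy h1
      (mul_inv_eq_iff_eq_mul.2 (mem_centralizer_singleton_iff.1 hg.1))⟩
    rcases hf.card_eq_of_three_invol h3 with hc | hc
    · rw [card_autOf_subtype le_rfl, relIndex_eq_one] at hc
      exact hN (hasNormalPComplement_of_normalizer_le_centralizer P hc)
    by_cases h8 : 8 ∣ Nat.card G
    · obtain ⟨I, hI⟩ := exists_isPModular Nat.prime_two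
      have h9 := Nat.le_of_dvd Nat.card_pos (P.pow_dvd_card_of_pow_dvd_card (n := 3) h8)
      obtain ⟨X, Y, δ, d, ζ, a, o⟩ := (excSys_principal hI hab (by
        intro e; simp [e] at h9) hF.free).exists_out
      exact hs (hF.isSolvable hI o (by rw [hc]; omega) (by rw [hc]; omega))
    · exact hs (solvable_of_not_eight_dvd _ G A rfl hA h h8)
  · have hcs : ∀ x ∈ (P : Subgroup G), x ≠ 1 → Group.IsSolvable (centralizer ({x} : Set G)) := by
      intro x hx hx1
      have hle : (P : Subgroup G) ≤ centralizer {x} := fun y hy =>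
        mem_centralizer_singleton_iff.2 (hab hx y hy)
      have hne : centralizer ({x} : Set G) ≠ ⊤ := fun e => hx1 (mem_bot.1
        (commutator_inf_sylow_inf_center P ▸ ⟨⟨hG ▸ mem_top x, hx⟩, mem_center_iff.2 fun g =>
          mem_centralizer_singleton_iff.1 (e ▸ mem_top g)⟩))
      refine ih _ (hn ▸ card_lt_of_ne_top hne) _ _ _ (P.subtype hle) rfl (hA.subgroupOf _)
        (h.centralizer hA P hab (isPElt_of_mem P.isPGroup' hx)) (hβ.comp (centralizer {x}).subtype)
        (fun x hx y hy => Subtype.ext (hab hx y hy)) fun g hg h1 => ?_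
      obtain ⟨y, hy, h2, h3⟩ := hnd g hg fun e => h1 (Subtype.ext e)
      exact ⟨⟨y, hle hy⟩, hy, Subtype.ext h2, h3⟩
    obtain ⟨W, hW, -, -, hn', hQ⟩ := Agent.SF.exists_abelian_core (Agent.FT.isSylowOf_sylow P)
      hab' hr (fun x hx => hcs x hx.1 hx.2) fun x _ => by
        rw [← Nat.not_even_iff_odd, even_iff_two_dvd]; exact Agent.FT.not_dvd_piCoreOf 2 _
    have h1 : Group.IsSolvable N((P : Subgroup G)) := by
      obtain ⟨K, hK, hKn, e⟩ := exists_complement_sylow_normalizer P
      rw [← e, sup_comm]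
      exact Agent.FT.sol_sup hKn (isSolvable_of_not_two_dvd hK)
        (Group.isSolvable_of_comm hab'.is_comm.comm)
    have h2 := Agent.FT.sol_sup hn' h1 hW
    refine false_of_trans hβ P hnd (fun u hu v hv => isConj_of_strongly_embedded P
      (fun e => hs ?_) hQ hu hv) ?_
    · rw [e] at h2
      exact Group.isSolvable_of_surjective (f := (⊤ : Subgroup G).subtype)
        fun x => ⟨⟨x, mem_top x⟩, rfl⟩
    · rw [card_mul_self_eq _ hab']
      exact Nat.pow_lt_pow_right (a := 2) (by norm_num) hr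

end Cfsg.Fr
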