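import Cfsg.Agent.Fr.Basic
import Cfsg.Agent.Blk.AbFreeC
import Cfsg.Agent.FT.FixChar
import Cfsg.Agent.Grp.ThompsonTransfer

/-!
# Dihedral Sylow `2`-subgroups of order 8 (project S4562)

`z = σ²`; all involutions are conjugate to `z`.  For `ψ ∈ ovr μ` put `x = ψ(1)`, `v = ψ(z)`,
`w = ψ(σ)`.  (a) `m ∣ x`, `∑ (x/m)² = 8`.  (b) `|C(σ)| = 4 |A| n²`, `n ∣ w`, `∑ (w/n)² = 4`.
(c) Restriction to `D` gives `8 ∣ x + 5 v + 2 w`; orthogonality then forces `|K : A| ≡ 5 (mod 8)`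
for `K = O(C(z))`.  (d) For a four-group `V`, `|O(C(V)) : A| = t r²` with `t ∣ 3`.
(e) The Brauer–Wielandt formula gives a contradiction modulo `8`.
-/

set_option autoImplicit false
set_option linter.unusedSectionVars false
set_option linter.unusedVariables false

namespace Cfsg.Fr

open Subgroup Finset
open scoped ComplexConjugate

universe u

variable {G : Type u} [Group G] [Finite G] {A : Subgroup G}

local notation "C(" Q ")" => Subgroup.centralizer (SetLike.coe (Q : Subgroup _))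
local notation "N(" Q ")" => Subgroup.normalizer (SetLike.coe (Q : Subgroup _))

theorem dih_arith_aux {m n k p q r s t : ℤ} (hm : m % 2 = 1) (hn : n % 2 = 1)
    (hp : 8 ∣ m + 5 * p + 2 * n) (hq : 8 ∣ m + 5 * q + 2 * n) (hr : 8 ∣ m + 5 * r - 2 * n)
    (hs : 8 ∣ m + 5 * s - 2 * n) (h4 : p + q + (r + s) + 2 * t = 0) (h5 : p + q = r + s)
    (h6 : p * p + q * q + (r * r + s * s) + t * t = 8 * k) : k % 8 = 5 := by
  obtain ⟨m, rfl⟩ := Int.odd_iff.2 hm
  obtain ⟨n, rfl⟩ := Int.odd_iff.2 hn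
  obtain ⟨⟨α, hα⟩, ⟨β, hβ⟩, ⟨γ, hγ⟩, ⟨δ, hδ⟩⟩ := And.intro hp (And.intro hq (And.intro hr hs))
  obtain ⟨c, hc⟩ : 8 ∣ r - s := ⟨5 * (γ - δ) - 3 * (r - s), by linear_combination 5 * hγ - 5 * hδ⟩
  obtain ⟨g, hg⟩ : 8 ∣ p - r - 4 :=
    ⟨5 * (α - γ) - 5 * n - 3 - 3 * (p - r), by linear_combination 5 * hα - 5 * hγ⟩
  obtain ⟨a, ha⟩ : 2 ∣ r - 1 := ⟨4 * γ - m + 2 * n - 2 * r, by linear_combination hγ⟩
  clear hp hq hr hs hα hβ hγ hδ hm hn
  obtain ⟨f, hf⟩ := Int.even_mul_succ_self (a - 2 * c)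
  obtain rfl : r = 2 * a + 1 := by omega
  obtain rfl : s = 2 * a + 1 - 8 * c := by omega
  obtain rfl : p = 2 * a + 5 + 8 * g := by omega
  obtain rfl : q = 2 * a - 3 - 8 * c - 8 * g := by omega
  obtain rfl : t = -(4 * a + 2 - 8 * c) := by omega
  have : 8 * k = 8 * (5 + 8 * (f + c * c + 2 * g * c + c + 2 * g * g + 2 * g)) := by
    linear_combination 32 * hf - h6
  omega

theorem dih_arith {ι : Type*} (S : Finset ι) (e d v : ι → ℤ) {m n k : ℤ} (hm : m % 2 = 1)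
    (hn : n % 2 = 1) (he : ∀ i ∈ S, 0 < e i) (h1 : ∑ i ∈ S, e i * e i = 8)
    (h2 : ∑ i ∈ S, d i * d i = 4) (h3 : ∑ i ∈ S, e i * d i = 0) (h4 : ∑ i ∈ S, e i * v i = 0)
    (h5 : ∑ i ∈ S, d i * v i = 0) (h6 : ∑ i ∈ S, v i * v i = 8 * k)
    (h7 : ∀ i ∈ S, 8 ∣ m * e i + 5 * v i + 2 * (n * d i))
    (h8 : ∀ i ∈ S, n * d i ≡ m * e i [ZMOD 2]) : k % 8 = 5 := by
  classical
  have hc : ∀ i ∈ S, (e i = 1 ∧ d i = 1) ∨ (e i = 1 ∧ d i = -1) ∨ e i = 2 := fun i hi => by
    have a1 : e i * e i ≤ 8 := h1 ▸ single_le_sum (fun j _ => mul_self_nonneg (e j)) hi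
    have a2 : d i * d i ≤ 4 := h2 ▸ single_le_sum (fun j _ => mul_self_nonneg (d j)) hi
    have a3 := he i hi
    have a4 : e i ≤ 2 := by nlinarith
    have a5 : d i ≤ 2 := by nlinarith
    have a6 : -2 ≤ d i := by nlinarith
    have a7 : n * d i % 2 = m * e i % 2 := h8 i hi
    generalize e i = x at *
    generalize d i = y at *
    interval_cases x <;> interval_cases y <;> omega
  obtain ⟨P, hP⟩ : ∃ P, P = S.filter fun i => e i = 1 ∧ d i = 1 := ⟨_, rfl⟩
  obtain ⟨M, hM⟩ : ∃ M, M = S.filter fun i => e i = 1 ∧ d i = -1 := ⟨_, rfl⟩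
  obtain ⟨T, hT⟩ : ∃ T, T = S.filter fun i => e i = 2 := ⟨_, rfl⟩
  have hs : ∀ F : ι → ℤ, ∑ i ∈ S, F i = ∑ i ∈ P, F i + ∑ i ∈ M, F i + ∑ i ∈ T, F i := fun F => by
    simp only [hP, hM, hT, sum_filter, ← sum_add_distrib]
    refine sum_congr rfl fun i hi => ?_
    rcases hc i hi with h | h | h <;> simp [h]
  have hP' : ∀ i ∈ P, i ∈ S ∧ e i = 1 ∧ d i = 1 := fun i hi => mem_filter.1 (hP ▸ hi)
  have hM' : ∀ i ∈ M, i ∈ S ∧ e i = 1 ∧ d i = -1 := fun i hi => mem_filter.1 (hM ▸ hi)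
  have hT' : ∀ i ∈ T, i ∈ S ∧ e i = 2 := fun i hi => mem_filter.1 (hT ▸ hi)
  have cP : ∀ (F : ι → ℤ) (c : ℤ) (U : Finset ι), (∀ i ∈ U, F i = c) → ∑ i ∈ U, F i = U.card * c :=
    fun F c U h => by rw [sum_congr rfl h, sum_const, nsmul_eq_mul]
  rw [hs, cP _ 1 P fun i hi => by simp [hP' i hi], cP _ 1 M fun i hi => by simp [hM' i hi]] at h1 h2
  rw [cP _ 4 T fun i hi => by simp [hT' i hi]] at h1
  rw [hs, cP _ 1 P fun i hi => by simp [hP' i hi], cP _ (-1) M fun i hi => by simp [hM' i hi]] at h3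
  have h0 : 0 ≤ ∑ i ∈ T, d i * d i := sum_nonneg fun i _ => mul_self_nonneg _
  rw [hs] at h4 h5 h6
  rcases (show T.card = 1 ∨ T.card = 2 by omega) with hT1 | hT2
  · obtain ⟨t, rfl⟩ := card_eq_one.1 hT1
    simp only [sum_singleton, card_singleton] at h1 h2 h3 h4 h5 h6 h0
    have t1 := hT' t (mem_singleton_self t)
    have t2 : d t = 0 := mul_self_eq_zero.1 (by omega)
    rw [t1.2, t2] at h3
    obtain ⟨p, q, hpq, rfl⟩ := card_eq_two.1 (show P.card = 2 by omega)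
    obtain ⟨r, s, hrs, rfl⟩ := card_eq_two.1 (show M.card = 2 by omega)
    obtain ⟨p0, p1, p2⟩ := hP' p (by simp)
    obtain ⟨q0, q1, q2⟩ := hP' q (by simp)
    obtain ⟨r0, r1, r2⟩ := hM' r (by simp)
    obtain ⟨s0, s1, s2⟩ := hM' s (by simp)
    simp only [sum_pair hpq, sum_pair hrs, p1, p2, q1, q2, r1, r2, s1, s2, t1.2, t2] at h4 h5 h6
    exact dih_arith_aux (t := v t) hm hn (by simpa [p1, p2] using h7 p p0)
      (by simpa [q1, q2] using h7 q q0) (by simpa [r1, r2, sub_eq_add_neg] using h7 r r0)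
      (by simpa [s1, s2, sub_eq_add_neg] using h7 s s0) (by linarith) (by linarith) h6
  · obtain ⟨t, u, htu, rfl⟩ := card_eq_two.1 hT2
    simp only [sum_pair htu, card_pair htu, (hT' t (by simp)).2, (hT' u (by simp)).2] at h1 h2 h3
    rw [show d u = -d t by omega] at h2
    have : d t * d t = 2 := by rw [neg_mul_neg] at h2; omega
    have a5 : d t ≤ 1 := by nlinarith
    have a6 : -1 ≤ d t := by nlinarith
    interval_cases d t <;> omega

/-- Scalars on a central subgroup. -/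
theorem apply_mul_conj {H : Type u} [Group H] [Finite H] (hA : A ≤ center G) (χ : IrrCharacter G)
    (f : H →* G) (hf : Function.Injective f) {θ : IrrCharacter H} (h : ip (χ.1 ∘ f) θ.1 ≠ 0)
    {a : H} (ha : f a ∈ A) : χ (f a) * conj (θ a) = χ 1 * conj (θ 1) := by
  obtain ⟨ζ, hζ, e⟩ := exists_scal χ (hA ha)
  have e2 := scal_of_ip_ne_zero (f := χ.1 ∘ f) (a := a) (ζ := ζ) (mem_center_iff.2 fun g =>
    hf (by simpa using mem_center_iff.1 (hA ha) (f g))) (fun g => by simpa using e (f g)) h 1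
  have e1 := e 1
  rw [mul_one] at e1 e2
  rw [e1, e2, map_mul]
  linear_combination (χ 1 * conj (θ 1)) * hζ

theorem relIndex_dvd_sq (hA : A ≤ center G) (χ : IrrCharacter G) (Y : Subgroup G)
    (hv : ∀ y ∈ Y, y ∉ A → χ y = 0) : A.relIndex Y ∣ charDegree χ.1 ^ 2 := by
  have hc := χ.isCharacter.comp Y.subtype
  have h := index_mul_ip (A := A.subgroupOf Y) (f := χ.1 ∘ Y.subtype) (θ := χ.1 ∘ Y.subtype)
    (c := χ 1 * conj (χ 1)) (fun g hg => hv g g.2 hg)
    fun a ha => apply_mul_conj hA χ (MonoidHom.id G) Function.injective_id (θ := χ)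
      (by simp [χ.ip_self]) ha
  rw [← hc.ipNat_cast hc, χ.apply_one, map_natCast] at h
  exact ⟨_, by rw [pow_two]; exact_mod_cast h.symm⟩

theorem relIndex_eq_mul_sq (hA : A ≤ center G) (χ : IrrCharacter G) (U : Subgroup G) [U.Normal]
    (hv : ∀ y ∈ U, y ∉ A → χ y = 0) : ∃ t n, t ∣ U.index ∧ A.relIndex U = t * n ^ 2 := by
  obtain ⟨θ, hθ⟩ := χ.exists_liesOver_below U.subtype
  have hc := χ.isCharacter.comp U.subtype
  have h := index_mul_ip (A := A.subgroupOf U) (f := χ.1 ∘ U.subtype) (θ := θ.1)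
    (c := χ 1 * conj (θ 1)) (fun g hg => hv g g.2 hg)
    fun a ha => apply_mul_conj hA χ U.subtype U.subtype_injective hθ ha
  rw [← hc.ipNat_cast θ.isCharacter, χ.apply_one, θ.apply_one, map_natCast, hθ.charDegree_eq] at h
  refine ⟨_, charDegree θ.1, index_dvd_of_le (le_inertia_subtype U θ),
    Nat.eq_of_mul_eq_mul_right ((liesOver_iff_ipNat_pos χ.isCharacter θ.isCharacter).1 hθ) ?_⟩
  norm_cast at h
  rw [relIndex, h]; ring

theorem dvd_of_central (hA : A ≤ center G) {f : G → ℂ} (hf : IsCharacter G f)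
    (hv : ∀ θ : IrrCharacter G, ip f θ.1 ≠ 0 → ∀ g, g ∉ A → θ g = 0) {n : ℕ} (hn : n ^ 2 = A.index)
    {s : G} (hs : s ∈ A) {w : ℤ} (hw : f s = w) : (n : ℤ) ∣ w := by
  have hn0 : (n : ℂ) ≠ 0 := by
    rintro h
    rw [show n = 0 by exact_mod_cast h] at hn
    exact A.index_ne_zero_of_finite hn.symm
  have h1 : IsIntegral ℤ ((w : ℂ) / n) := by
    rw [← hw, hf.eq_sum_ipNat, Finset.sum_apply, sum_div]
    refine IsIntegral.sum _ fun θ _ => ?_
    by_cases h0 : ip f θ.1 = 0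
    · simpa [(hf.ipNat_eq_zero_iff θ.isCharacter).2 h0] using isIntegral_zero
    · have h2 := (sq_eq_index hA θ (hv θ h0)).trans hn.symm
      rw [Nat.pow_left_injective two_ne_zero h2.symm, ← θ.apply_one, Pi.smul_apply, smul_eq_mul,
        mul_div_assoc]
      refine (isIntegral_natCast _).mul (IsIntegral.of_pow (orderOf_pos s) ?_)
      exact (θ.div_pow_eq_one_of_mem_center (hA hs) (pow_orderOf_eq_one s)).symm ▸ isIntegral_one
  obtain ⟨d, hd⟩ := exists_int_of_isIntegral_ratCast h1 (q := w / n) (by push_cast; rfl)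
  rw [div_eq_iff hn0] at hd
  exact ⟨d, by rw [mul_comm]; exact_mod_cast hd⟩

theorem exists_relIndex_eq_two_pow {H L : Subgroup G}
    (h : ∀ g ∈ H, ¬ 2 ∣ orderOf g → g ∈ L) : ∃ j, L.relIndex H = 2 ^ j := by
  refine ⟨_, Nat.eq_prime_pow_of_unique_prime_dvd index_ne_zero_of_finite fun {p} hp hd => ?_⟩
  by_contra h2
  have := Fact.mk hp
  obtain ⟨S⟩ : Nonempty (Sylow p H) := inferInstance
  refine S.not_dvd_index (hd.trans (index_dvd_of_le fun g hg => h g g.2 fun e => h2 ?_))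
  obtain ⟨k, hk⟩ := IsPGroup.iff_orderOf.1 S.isPGroup' ⟨g, hg⟩
  rw [Subgroup.orderOf_coe, ← Subgroup.orderOf_mk g hg, hk] at e
  exact ((Nat.prime_dvd_prime_iff_eq Nat.prime_two hp).1 (Nat.prime_two.dvd_of_dvd_pow e)).symm

theorem card_eq_odd_mul {H L : Subgroup G} (hle : L ≤ H) (hL : ¬ 2 ∣ Nat.card L)
    (h : ∀ g ∈ H, ¬ 2 ∣ orderOf g → g ∈ L) :
    Nat.card H = Nat.card L * 2 ^ (Nat.card H).factorization 2 := by
  obtain ⟨j, hj⟩ := exists_relIndex_eq_two_pow h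
  rw [← card_mul_relIndex hle, hj, Nat.factorization_mul Nat.card_pos.ne' (by positivity)]
  simp [Nat.factorization_eq_zero_of_not_dvd hL, Nat.prime_two.factorization_self]

section dih

variable {D : Subgroup G} {σ τ : G}

theorem sum_zpow (σ : G) [Fintype (zpowers σ)] (F : G → ℂ) :
    ∑ g : zpowers σ, F g = ∑ i ∈ range (orderOf σ), F (σ ^ i) := by
  rw [← (finEquivZPowers (isOfFinOrder_of_finite σ)).sum_comp, sum_range]
  rfl

theorem sum_dih (h : IsDihPair D σ τ) [Fintype D] (F : G → ℂ) :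
    ∑ g : D, F g = ∑ i ∈ range (orderOf σ), (F (σ ^ i) + F (σ ^ i * τ)) := by
  classical
  have := Fintype.ofFinite (zpowers σ)
  rw [sum_add_distrib, ← sum_zpow σ F, ← sum_zpow σ fun g => F (g * τ)]
  refine Eq.trans ?_ (Fintype.sum_sum_type
    (Sum.elim (fun g : zpowers σ => F g) fun g : zpowers σ => F (g * τ)))
  refine (Fintype.sum_bijective (Sum.elim (fun g : zpowers σ => (⟨g, h.zpowers_le g.2⟩ : D))
    fun g : zpowers σ => ⟨g * τ, mul_mem (h.zpowers_le g.2) h.mem_τ⟩) ⟨?_, fun x => ?_⟩ _ _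
    (by rintro (a | a) <;> rfl)).symm
  · rintro (a | a) (b | b) e <;> have e' := congrArg Subtype.val e
    · exact congrArg _ (Subtype.ext e')
    · exact (h.mul_τ_notMem b.2 ((show (a : G) = b * τ from e') ▸ a.2)).elim
    · exact (h.mul_τ_notMem a.2 ((show (a : G) * τ = b from e') ▸ b.2)).elim
    · exact congrArg _ (Subtype.ext (mul_right_cancel e'))
  · by_cases hx : (x : G) ∈ zpowers σ
    · exact ⟨.inl ⟨x, hx⟩, rfl⟩
    · obtain ⟨a, ha, e⟩ := h.exists_eq_mul x.2 hx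
      exact ⟨.inr ⟨a, ha⟩, Subtype.ext e.symm⟩

theorem orderOf_sq (hσ : orderOf σ = 4) : orderOf (σ ^ 2) = 2 := by
  rw [orderOf_pow_of_dvd two_ne_zero (by rw [hσ]; decide), hσ]

theorem mem_sq (hσ : orderOf σ = 4) {s : G} (hs : s ∈ zpowers σ) (h : s * s = 1) :
    s ∈ zpowers (σ ^ 2) :=
  mem_zpowers_of_orderOf_dvd_of_mem (pow_mem (mem_zpowers σ) 2) hs
    (by rw [orderOf_sq hσ]; exact orderOf_dvd_of_pow_eq_one ((pow_two s).trans h))

/-- The four-subgroup `⟨σ², τ⟩`. -/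
theorem dih_four (h : IsDihPair D σ τ) (hσ : orderOf σ = 4) :
    IsDihPair (D ⊓ centralizer {τ}) (σ ^ 2) τ := by
  have hz := pow_mem (mem_zpowers σ) 2
  have h1 := h.le_centralizer hz (orderOf_sq hσ) h.mem_τ
  have key : ∀ x ∈ zpowers σ, x * τ = τ * x → x ∈ zpowers (σ ^ 2) := fun x hx e =>
    mem_sq hσ hx (by rw [mul_eq_one_iff_eq_inv, ← h.τ_conj hx, ← e, mul_inv_cancel_right])
  refine ⟨⟨h.zpowers_le hz, mem_centralizer_singleton_iff.2 (mem_centralizer_singleton_iff.1 h1).symm⟩,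
    ⟨h.mem_τ, mem_centralizer_singleton_iff.2 rfl⟩, h.mul_self, h.τ_conj hz,
    fun e => h.notMem (zpowers_le.2 hz e), fun x hx => (h.cases x hx.1).imp
      (key x · (mem_centralizer_singleton_iff.1 hx.2)) (key _ · ?_)⟩
  rw [← mul_assoc, ← mem_centralizer_singleton_iff.1 hx.2]

/-- Brauer–Wielandt formula. -/
theorem wielandt (h : IsDihPair D σ τ) (hσ : orderOf σ = 4) (hD : IsPGroup 2 D) {K : Subgroup G}
    (hn : D ≤ N(K)) (hK : ¬ 2 ∣ Nat.card K) :
    Nat.card (K ⊓ C(D) : Subgroup G) ^ 2 * Nat.card (K ⊓ C(zpowers (σ ^ 2)) : Subgroup G) =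
      Nat.card (K ⊓ C(D ⊓ centralizer {τ}) : Subgroup G) *
        Nat.card (K ⊓ C(D ⊓ centralizer {σ * τ}) : Subgroup G) *
          Nat.card (K ⊓ C(zpowers σ) : Subgroup G) := by
  classical
  have h' := h.of_notMem (mul_mem h.mem_σ h.mem_τ) (h.mul_τ_notMem (mem_zpowers σ))
  have hz := pow_mem (mem_zpowers σ) 2
  obtain ⟨s, hs, e⟩ := Agent.FT.exists_chars hn (by
    rw [h.card_eq, hσ]
    exact (Nat.prime_two.coprime_iff_not_dvd.2 hK).symm.pow_right 3) (isSolvable_of_not_two_dvd hK)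
  rw [(e _ le_rfl).1, (e _ (zpowers_le.2 (h.zpowers_le hz))).1, (e _ inf_le_left).1,
    (e _ inf_le_left).1, (e _ h.zpowers_le).1]
  clear e
  induction s with
  | nil => simp
  | cons x s ih =>
    have key : ∀ L, L ≤ D → ∀ [Fintype L], (Nat.card L : ℂ) * Agent.FT.fxDim x.2 (L.subgroupOf D) =
        ∑ g : L, Function.extend Subtype.val x.2 0 g := fun L hL _ => by
      have := Fintype.ofFinite (L.subgroupOf D)
      rw [← Nat.card_congr (subgroupOfEquivOfLe hL).toEquiv,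
        Agent.FT.card_mul_fxDim (hs x List.mem_cons_self).2,
        ← (subgroupOfEquivOfLe hL).toEquiv.sum_comp]
      exact sum_congr rfl fun g _ => (Subtype.val_injective.extend_apply _ _ g.1).symm
    have := Fintype.ofFinite G
    have a1 := key _ le_rfl
    have a2 := key _ (zpowers_le.2 (h.zpowers_le hz))
    have a3 := key (D ⊓ centralizer {τ}) inf_le_left
    have a4 := key (D ⊓ centralizer {σ * τ}) inf_le_left
    have a5 := key _ h.zpowers_le
    rw [sum_dih h, h.card_eq, hσ] at a1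
    rw [sum_dih (dih_four h hσ), (dih_four h hσ).card_eq, orderOf_sq hσ] at a3
    rw [sum_dih (dih_four h' hσ), (dih_four h' hσ).card_eq, orderOf_sq hσ] at a4
    rw [sum_zpow, Nat.card_zpowers, orderOf_sq hσ] at a2
    rw [sum_zpow, Nat.card_zpowers, hσ] at a5
    simp only [sum_range_succ, range_zero, sum_empty, pow_zero, pow_one, one_mul,
      ← mul_assoc, ← pow_succ] at a1 a2 a3 a4 a5
    have a6 : 2 * Agent.FT.fxDim x.2 (D.subgroupOf D) +
        Agent.FT.fxDim x.2 ((zpowers (σ ^ 2)).subgroupOf D) =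
          Agent.FT.fxDim x.2 ((D ⊓ centralizer {τ}).subgroupOf D) +
            Agent.FT.fxDim x.2 ((D ⊓ centralizer {σ * τ}).subgroupOf D) +
              Agent.FT.fxDim x.2 ((zpowers σ).subgroupOf D) := by
      refine Nat.cast_injective (R := ℂ) ?_
      push_cast at a1 a2 a3 a4 a5 ⊢
      linear_combination (a1 + 2 * a2 - a3 - a4 - a5) / 4
    simp only [List.map_cons, List.prod_cons]
    rw [mul_pow, mul_mul_mul_comm, ih fun y hy => hs y (List.mem_cons_of_mem _ hy), ← pow_mul,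
      ← pow_add, mul_comm _ 2, a6]
    ring


theorem cent_or_card_le (h : IsDihPair D σ τ) (hσ : orderOf σ = 4) (hD : IsPGroup 2 D)
    {Q : Subgroup G} (hQ : Q ≤ D) {x : G} (hx : ¬ 2 ∣ orderOf x) (hn : ∀ q ∈ Q, x * q * x⁻¹ ∈ Q) :
    (∀ q ∈ Q, x * q * x⁻¹ = q) ∨ Nat.card Q ≤ 4 := by
  have hz := pow_mem (mem_zpowers σ) 2
  by_cases hs : ∀ s ∈ Q, s * s = 1
  · right
    have h1 := card_dvd_of_le hQ
    have h2 : Nat.card Q ≠ 8 := fun e => by
      have := hs σ (eq_of_le_of_card_ge hQ (by rw [e, h.card_eq, hσ]) ▸ h.mem_σ)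
      have := orderOf_dvd_of_pow_eq_one ((pow_two σ).trans this)
      rw [hσ] at this; omega
    rw [h.card_eq, hσ] at h1
    have := Nat.le_of_dvd (by decide) h1
    interval_cases Nat.card Q <;> omega
  · left
    push Not at hs
    obtain ⟨s, hs, h1⟩ := hs
    have key : ∀ s ∈ Q, s * s ≠ 1 → s * s = σ ^ 2 := fun s hs h1 => by
      have h2 : s ∈ zpowers σ := by_contra fun e => h1 (h.mul_self_of_notMem (hQ hs) e)
      refine eq_of_orderOf_eq_two_of_mem_zpowers (mul_mem h2 h2) hz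
        (orderOf_eq_two_of_mul_self ?_ h1) (orderOf_sq hσ)
      have := orderOf_dvd_iff_pow_eq_one.1 (hσ ▸ orderOf_dvd_of_mem_zpowers h2)
      simpa [pow_succ, mul_assoc] using this
    refine fun q hq => h.conj_eq_of_odd hD hz (orderOf_sq hσ) hQ hx ?_ hn hq
    have h2 := key _ (hn s hs) (by rwa [conj_mul, Ne, conj_eq_one_iff])
    rw [conj_mul, key s hs h1, mul_inv_eq_iff_eq_mul] at h2
    exact mem_centralizer_singleton_iff.2 h2

/-- The shift of an element centralizing a four-group `V` may be done in `N(V)`. -/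
theorem exists_shift_normalizer (hA : Ctr A) (h : IsDihPair D σ τ) (hσ : orderOf σ = 4)
    (hD : IsPGroup 2 D) (hi : ¬ 2 ∣ D.index) {V : Subgroup G} (hV : Nat.card V = 4) {y : G}
    (hy : y ∈ C(V)) (hb : Bad A y) : ∃ c ∈ N(V), ∃ a ∈ A, a ≠ 1 ∧ c * y * c⁻¹ = a * y := by
  obtain ⟨c, a, ha, h1, hc⟩ := hb
  obtain ⟨Q, hQ, hVQ, hQy, hQi⟩ := exists_sylow_le_of_le (H := centralizer {y})
    (IsPGroup.of_card (p := 2) (n := 2) hV) fun v hv => mem_centralizer_singleton_iff.2 (hy v hv)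
  obtain ⟨k, hk, hkQ⟩ := exists_map_conj_le_of_not_dvd_relIndex hQ hQi
    (isPGroup_map_conj_iff (g := c).2 hQ) (map_conj_le_iff.2 fun q hq => by
      rw [mem_centralizer_singleton_iff, ← mul_right_inj a, ← mul_assoc, ← hA.comm ha, mul_assoc,
        ← mul_assoc a, ← hc, conj_mul, conj_mul, mem_centralizer_singleton_iff.1 (hQy hq)])
  rw [map_conj_map_conj] at hkQ
  obtain ⟨n, h2, h3, h4⟩ := hA.exists_odd (c := k * c) (y := y) ha h1 (by
    rw [show k * c * y * (k * c)⁻¹ = k * (c * y * c⁻¹) * k⁻¹ by group, hc, ← mul_assoc,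
      hA.comm ha, mul_assoc a, mem_centralizer_singleton_iff.1 hk, ← mul_assoc,
      mul_inv_cancel_right])
  have h5 := pow_mem (mem_normalizer_of_map_conj_le hkQ) n
  refine ⟨_, ?_, _, pow_mem ha n, h3, h4⟩
  generalize (k * c) ^ n = x at h2 h5
  obtain ⟨g, -, hg⟩ := exists_map_conj_le_of_not_dvd_relIndex (H := ⊤) hD
    (by rwa [relIndex_top_right]) hQ le_top
  rcases cent_or_card_le h hσ hD hg (x := g * x * g⁻¹) (by rwa [orderOf_conj_eq]) fun q hq => by
    rw [mem_map_conj] at hq ⊢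
    simpa [mul_assoc] using (mem_normalizer_iff.1 h5 _).1 hq with h6 | h6
  · refine centralizer_le_normalizer _ fun v hv => ?_
    have := h6 _ (conj_mem_map_conj.2 (hVQ hv))
    rw [mul_inv_eq_iff_eq_mul, conj_mul, conj_mul, mul_left_inj, mul_right_inj] at this
    exact this.symm
  · rwa [eq_of_le_of_card_ge hVQ (by rwa [card_map_conj, ← hV] at h6)]

theorem four_local (hA : Ctr A) (ho : OddBad A) (h : IsDihPair D σ τ) (hσ : orderOf σ = 4)
    (hD : IsPGroup 2 D) (hi : ¬ 2 ∣ D.index) {V U : Subgroup G} (hV : Nat.card V = 4)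
    (hU : ∀ g, g ∈ U ↔ g ∈ C(V) ∧ ¬ 2 ∣ orderOf g) (hU2 : ¬ 2 ∣ Nat.card U) {ψ : IrrCharacter G}
    (hψ : Faith A ψ.1) : ∃ t n, t ∣ 3 ∧ Nat.card U = Nat.card A * (t * n ^ 2) := by
  have hUC : U ≤ C(V) := fun g hg => ((hU g).1 hg).1
  have hUN : U ≤ N(V) := hUC.trans (centralizer_le_normalizer _)
  have hAU : A ≤ U := fun a ha => (hU a).2 ⟨fun v _ => hA.comm ha v, hA.not_two_dvd ha⟩
  have : (U.subgroupOf N(V)).Normal := ⟨fun u hu g => (hU _).2
    ⟨(mem_normalizer_iff.1 (normalizer_le_normalizer_centralizer V g.2) _).1 (hUC hu), by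
      simpa [orderOf_conj_eq] using ((hU _).1 hu).2⟩⟩
  obtain ⟨χ, hχ⟩ := ψ.exists_liesOver_below N(V).subtype
  have hA' := hA.subgroupOf N(V)
  obtain ⟨t, n, ht, e⟩ := relIndex_eq_mul_sq hA'.le χ (U.subgroupOf N(V)) fun y hy hy' => by
    obtain ⟨c, hc, a, ha, h1, e⟩ := exists_shift_normalizer hA h hσ hD hi hV (hUC hy)
      (ho y ((hU _).1 hy).2 hy')
    exact ((hψ.comp_subtype _).of_ip_ne_zero hA'.le hχ).apply_eq_zero χ.isClassFunction
      (bad_subgroupOf hc ha h1 e)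
  rw [relIndex_subgroupOf hUN] at e
  rw [← card_mul_relIndex hAU, e] at hU2 ⊢
  refine ⟨t, n, ?_, rfl⟩
  obtain ⟨j, hj⟩ := exists_relIndex_eq_two_pow (H := C(V)) fun g hg h2 => (hU g).2 ⟨hg, h2⟩
  have h1 : C(V).relIndex N(V) ∣ 2 ^ 3 * 3 := by
    rw [relIndex, ← normalizerMonoidHom_ker, index_ker]
    refine (card_subgroup_dvd_card _).trans
      ((card_dvd_of_injective (MulAut.toPerm V) fun _ _ e => MulEquiv.toEquiv_injective e).trans ?_)
    rw [Nat.card_perm, hV]; decide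
  have h2 : t ∣ 2 ^ (j + 3) * 3 := by
    rw [pow_add, mul_assoc, ← hj]
    exact ht.trans ((relIndex_mul_relIndex _ _ _ hUC (centralizer_le_normalizer _)).symm.dvd.trans
      (mul_dvd_mul_left _ h1))
  exact ((Nat.prime_two.coprime_iff_not_dvd.2 fun e => hU2
    ((e.mul_right _).mul_left _)).symm.pow_right _).dvd_of_dvd_mul_left h2

theorem dvd_charDegree (hA : Ctr A) (ho : OddBad A) {m : ℕ} (hm : m ^ 2 ∣ A.index) (h2 : ¬ 2 ∣ m)
    {ψ : IrrCharacter G} (hψ : Faith A ψ.1) : m ∣ charDegree ψ.1 := by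
  rw [← Nat.pow_dvd_pow_iff two_ne_zero, Nat.dvd_iff_prime_pow_dvd_dvd]
  intro p k hp hk
  rcases k with _ | k
  · simp
  have := Fact.mk hp
  have := hA.normal
  obtain ⟨S⟩ : Nonempty (Sylow p G) := inferInstance
  refine Dvd.dvd.trans ?_ (relIndex_dvd_sq hA.le ψ ((S : Subgroup G) ⊔ A) fun y hy hy' =>
    hψ.apply_eq_zero ψ.isClassFunction (ho y (fun e => ?_) hy'))
  · have h1 := hk.trans hm
    rw [← relIndex_mul_index (le_sup_right : A ≤ (S : Subgroup G) ⊔ A)] at h1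
    exact ((hp.coprime_iff_not_dvd.2 fun e => S.not_dvd_index
      (e.trans (index_dvd_of_le le_sup_left))).pow_left _).dvd_of_dvd_mul_right h1
  · obtain ⟨j, hj⟩ := S.isPGroup'.exists_card_eq
    have h1 := e.trans ((orderOf_dvd_natCard _ hy).trans
      (card_sup_dvd_of_le_normalizer le_normalizer_of_normal))
    rw [hj] at h1
    have h3 := (Nat.prime_dvd_prime_iff_eq Nat.prime_two hp).1 (Nat.prime_two.dvd_of_dvd_pow
      ((Nat.prime_two.dvd_mul.1 h1).resolve_right hA.odd))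
    subst h3
    exact h2 (Nat.prime_two.dvd_of_dvd_pow ((dvd_pow_self 2 k.succ_ne_zero).trans hk))

theorem sigma_local (hA : Ctr A) (hσ : orderOf σ = 4)
    (hC : 2 ^ (Nat.card (centralizer ({σ} : Set G))).factorization 2 = 4)
    (h3 : ∀ y, Commute σ y → ¬ 2 ∣ orderOf y → y ∉ A →
      ∃ c, Commute σ c ∧ ∃ a ∈ A, a ≠ 1 ∧ c * y * c⁻¹ = a * y) {ψ : IrrCharacter G}
    (hψ : Faith A ψ.1) : ∃ n, Nat.card (centralizer ({σ} : Set G)) = 4 * Nat.card A * n ^ 2 ∧
      ∀ χ : IrrCharacter G, Faith A χ.1 → ∀ w : ℤ, χ σ = w → (n : ℤ) ∣ w := by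
  have := hA.normal
  set H := centralizer ({σ} : Set G) with hH
  have hm : ∀ g, g ∈ H ↔ Commute σ g := fun g =>
    mem_centralizer_singleton_iff.trans eq_comm
  have hσH : zpowers σ ≤ H := zpowers_le.2 ((hm σ).2 rfl)
  have hBH : zpowers σ ⊔ A ≤ H := sup_le hσH fun a ha => (hm a).2 (hA.comm ha σ)
  have hP : IsPGroup 2 (zpowers σ) := IsPGroup.of_card (n := 2) (by rw [Nat.card_zpowers, hσ]; rfl)
  have hi : ¬ 2 ∣ (zpowers σ).relIndex H := fun e => by
    have h1 := Nat.not_dvd_ordCompl Nat.prime_two (Nat.card_pos (α := H)).ne'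
    rw [hC, ← card_mul_relIndex hσH, Nat.card_zpowers, hσ, Nat.mul_div_cancel_left _ four_pos] at h1
    exact h1 e
  have hB : (zpowers σ ⊔ A).subgroupOf H ≤ center H := fun b hb => mem_center_iff.2 fun g => by
    obtain ⟨s, ⟨i, rfl⟩, a, ha, e⟩ := mem_sup_of_normal_right.1 hb
    refine Subtype.ext ?_
    change (g : G) * b = b * g
    rw [← show _ = (b : G) from e]
    exact (((hm g).1 g.2).zpow_left i).symm.mul_right (hA.comm ha g)
  have key : ∀ χ : IrrCharacter G, Faith A χ.1 → ∀ θ : IrrCharacter H,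
      ip (χ.1 ∘ H.subtype) θ.1 ≠ 0 → ∀ g, g ∉ (zpowers σ ⊔ A).subgroupOf H → θ g = 0 := by
    intro χ hχ θ hθ g hg
    obtain ⟨k, hk, h1⟩ := exists_map_conj_le_of_not_dvd_relIndex hP hi
      (isPElt_iff_isPGroup_zpowers.1 (isPElt_pPart (p := 2) (g : G))) (zpowers_le.2 (pPart_mem 2 g.2))
    obtain ⟨i, h2⟩ := map_conj_le_iff.1 h1 _ (mem_zpowers _)
    have h4 : pPart 2 (g : G) = σ ^ i := by
      rw [eq_mul_inv_iff_mul_eq, (((hm k).1 hk).zpow_left i).eq] at h2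
      exact (mul_left_cancel h2).symm
    obtain ⟨c, hc, a, ha, h5, h6⟩ := h3 _ ((hm _).1 (pPrimePart_mem 2 g.2))
      (isPRegular_pPrimePart (p := 2) (g : G)) fun e => hg (by
        rw [mem_subgroupOf, ← pPart_mul_pPrimePart 2 (g : G), h4]
        exact mul_mem (mem_sup_left (zpow_mem (mem_zpowers σ) i)) (mem_sup_right e))
    refine ((hχ.comp_subtype H).of_ip_ne_zero (hA.subgroupOf H).le hθ).apply_eq_zero
      θ.isClassFunction (bad_subgroupOf ((hm c).2 hc) ha h5 ?_)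
    rw [← pPart_mul_pPrimePart 2 (g : G), h4, ← mul_assoc, ← (hc.zpow_left i).eq, mul_assoc,
      mul_assoc, ← mul_assoc c, h6, ← mul_assoc, hA.comm ha, mul_assoc]
  obtain ⟨θ, hθ⟩ := ψ.exists_liesOver_below H.subtype
  have hn := sq_eq_index hB θ (key ψ hψ θ hθ)
  refine ⟨_, ?_, fun χ hχ w hw => dvd_of_central hB (χ.isCharacter.comp H.subtype) (key χ hχ) hn
    (s := ⟨σ, hσH (mem_zpowers σ)⟩) (mem_sup_left (mem_zpowers σ)) hw⟩
  rw [hn, ← card_mul_relIndex hBH, card_sup_of_le_normalizer_of_disjoint le_normalizer_of_normal,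
    Nat.card_zpowers, hσ, relIndex]
  refine (disjoint_of_coprime_natCard ?_).eq_bot
  rw [Nat.card_zpowers, hσ]
  exact (Nat.prime_two.coprime_iff_not_dvd.2 hA.odd).pow_left 2

theorem Ctr.not_isConj (hA : Ctr A) {u v : G} (hu : u ^ 4 = 1) (hv : v ^ 4 = 1)
    (h : orderOf u ≠ orderOf v) : ∀ a ∈ A, ¬ IsConj (a * u) v := fun a ha e => by
  obtain ⟨c, rfl⟩ := isConj_iff.1 e
  rw [_root_.conj_pow, conj_eq_one_iff, (show Commute a u from (hA.comm ha u).symm).mul_pow, hu,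
    mul_one] at hv
  obtain rfl : a = 1 := eq_one_of_mul_self (hA.not_two_dvd ha) (eq_one_of_mul_self
    (hA.not_two_dvd (mul_mem ha ha)) (by simpa [pow_succ, mul_assoc] using hv))
  rw [orderOf_conj_eq, one_mul] at h
  exact h rfl

end dih

theorem false_of_dih (hA : Ctr A) (ho : OddBad A) (D : Sylow 2 G) {σ τ : G}
    (hD : IsDihPair (D : Subgroup G) σ τ) (hσ : orderOf σ = 4) (h2 : ∀ L : Subgroup G, L.index ≠ 2)
    {m : ℕ} (hm : A.index = 8 * m ^ 2)
    (h3 : ∀ y, Commute σ y → ¬ 2 ∣ orderOf y → y ∉ A →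
      ∃ c, Commute σ c ∧ ∃ a ∈ A, a ≠ 1 ∧ c * y * c⁻¹ = a * y) : False := by
  classical
  have := Fintype.ofFinite G
  have hP := D.isPGroup'
  have hi := D.not_dvd_index
  have hz := pow_mem (mem_zpowers σ) 2
  have hz2 := orderOf_sq hσ
  have hσ4 : σ ^ 4 = 1 := hσ ▸ pow_orderOf_eq_one σ
  have hσ3 : σ ^ 3 = σ⁻¹ := eq_inv_of_mul_eq_one_left ((pow_succ σ 3).symm.trans hσ4)
  have hσ2 : σ * σ ≠ 1 := fun e => by simp [pow_two, e] at hz2
  have hD' := hD.of_notMem (mul_mem hD.mem_σ hD.mem_τ) (hD.mul_τ_notMem (mem_zpowers σ))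
  have hm2 : ¬ 2 ∣ m := fun e => hi (by
    have h1 := (D : Subgroup G).card_mul_index.trans A.card_mul_index.symm
    rw [hD.card_eq, hσ, hm, mul_left_comm (Nat.card A)] at h1
    rw [Nat.eq_of_mul_eq_mul_left (by decide) h1]
    exact (e.trans (dvd_pow_self m two_ne_zero)).mul_left _)
  have hone : ∀ i : ℕ, IsConj (σ ^ i * τ) (σ ^ 2) := fun i => by
    have h0 := hD.mul_τ_notMem (pow_mem (mem_zpowers σ) i)
    have h1 := hD.mul_self_of_notMem (mul_mem (pow_mem hD.mem_σ i) hD.mem_τ) h0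
    obtain ⟨g, hg⟩ := exists_conj_mem_of_no_index_two h2 hi hD.zpowers_le hD.relIndex_eq h1
    exact isConj_iff.2 ⟨g, eq_of_orderOf_eq_two_of_mem_zpowers hg hz (by
      rw [orderOf_conj_eq, orderOf_eq_two_of_mul_self h1 fun e => h0 (e ▸ one_mem _)]) hz2⟩
  -- the odd part of the centralizer of the central involution
  obtain ⟨K, hK, hK2⟩ : ∃ K : Subgroup G, (∀ g, g ∈ K ↔ g ∈ centralizer {σ ^ 2} ∧ ¬ 2 ∣ orderOf g) ∧
      ¬ 2 ∣ Nat.card K := by
    have h0 : ¬ 2 ∣ Nat.card ((pPrimeCore 2 (centralizer {σ ^ 2})).map (Subgroup.subtype _)) := by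
      rw [card_map_subtype]; exact not_dvd_card_pPrimeCore 2 _
    exact ⟨_, fun g => ⟨fun hg => ⟨map_subtype_le _ hg, fun e => h0 (e.trans
      (orderOf_dvd_natCard _ hg))⟩, fun hg => ⟨⟨g, hg.1⟩, hasNormalPComplement_iff_forall_mem.1
        (hD.hasNormalPComplement hP hi hz hz2) _ (by
          rw [IsPRegular, ← orderOf_coe]; exact hg.2), rfl⟩⟩, h0⟩
  have hKi : ∀ H : Subgroup G, ¬ 2 ∣ Nat.card (K ⊓ H : Subgroup G) := fun H e =>
    hK2 (e.trans (card_dvd_of_le inf_le_left))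
  have hAK : A ≤ K := fun a ha =>
    (hK a).2 ⟨mem_centralizer_singleton_iff.2 (hA.comm ha _).symm, hA.not_two_dvd ha⟩
  have c1 := card_eq_odd_mul (fun g hg => ((hK g).1 hg).1) hK2 fun g h1 h2 => (hK g).2 ⟨h1, h2⟩
  have f2 := (hD.factorization_centralizer hP hi hz hz2 (mem_zpowers σ) hσ2).trans hσ
  have c2 := card_eq_odd_mul (L := K ⊓ centralizer {σ}) inf_le_right (hKi _) fun g h1 h2 =>
    ⟨(hK g).2 ⟨mem_centralizer_singleton_iff.2
      (Commute.pow_right (mem_centralizer_singleton_iff.1 h1) 2), h2⟩, h1⟩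
  rw [hD.factorization_centralizer_J hP hi hz hz2, hσ, ← card_mul_relIndex hAK] at c1
  rw [f2] at c2
  -- the characters over `μ`
  obtain ⟨μ, hμ⟩ := hA.exists_faithful
  have hF : ∀ χ ∈ ovr μ, Faith A χ.1 := fun χ => faith_of_mem_over hA.le hμ
  have s1 := sum_over_sq hA.le μ
  obtain ⟨ψ, hψ⟩ : (ovr μ).Nonempty := nonempty_of_sum_ne_zero (s1 ▸ A.index_ne_zero_of_finite)
  obtain ⟨n, hn, hnw⟩ := sigma_local hA hσ f2 h3 (hF ψ hψ)
  have hn2 : ¬ 2 ∣ n := fun e => hKi (centralizer {σ}) (by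
    rw [show Nat.card (K ⊓ centralizer {σ} : Subgroup G) = Nat.card A * n ^ 2 by
      rw [mul_assoc] at hn; omega]
    exact (e.trans (dvd_pow_self n two_ne_zero)).mul_left _)
  have hv : ∀ χ : IrrCharacter G, ∃ v : ℤ, χ (σ ^ 2) = v := fun χ =>
    (χ.isCharacter.exists_int_of_sq_eq_one (g := σ ^ 2) (by rw [← pow_mul, hσ4])).imp fun _ h => h.1
  have hw : ∀ χ : IrrCharacter G, ∃ w : ℤ, χ σ = w := fun χ =>
    χ.isCharacter.isGen.exists_int_of_forall_pow fun k hk => by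
      have := Nat.prime_two.coprime_iff_not_dvd.1
        ((Nat.coprime_pow_right_iff two_pos k 2).1 (hσ ▸ hk :)).symm
      rw [← pow_mod_orderOf, hσ]
      rcases (show k % 4 = 1 ∨ k % 4 = 3 by omega) with e | e
      · rw [e, pow_one]
      · rw [e, hσ3]
        exact (χ.isClassFunction.eq_of_isConj (hD.isConj_inv (mem_zpowers σ))).symm
  choose v hv using hv
  choose w hw using hw
  choose! e he using fun χ hχ => dvd_charDegree hA ho (hm ▸ Dvd.intro_left 8 rfl) hm2 (hF χ hχ)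
  choose! d hd using fun χ hχ => hnw χ (hF χ hχ) _ (hw χ)
  have s2 := card_mul_sum_over hA.le μ (hA.not_bad (u := σ) ⟨2, hσ⟩)
  have s3 := sum_over_eq_zero hA.le μ (hA.not_isConj (one_pow 4) hσ4 (by simp [hσ]))
  have hz4 : (σ ^ 2) ^ 4 = 1 := by rw [← pow_mul, mul_comm, pow_mul, hσ4, one_pow]
  have s4 := sum_over_eq_zero hA.le μ (hA.not_isConj (one_pow 4) hz4 (by simp [hz2]))
  have s5 := sum_over_eq_zero hA.le μ (hA.not_isConj hσ4 hz4 (by simp [hz2, hσ]))
  have s6 := card_mul_sum_over hA.le μ (hA.not_bad (isPElt_two_of_orderOf hz2))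
  simp only [hv, hw, IrrCharacter.apply_one, map_intCast, hn, c1] at s2 s3 s4 s5 s6
  have hm0 : (m : ℤ) ≠ 0 := by omega
  have hn0 : (n : ℤ) ≠ 0 := by omega
  have hA0 : (Nat.card A : ℤ) ≠ 0 := by exact_mod_cast Nat.card_pos.ne'
  have hk := dih_arith (ovr μ) (fun χ => e χ) d v (m := m) (n := n) (k := A.relIndex K) (by omega)
    (by omega) (fun χ hχ => by
      have := χ.charDegree_pos
      rw [he χ hχ] at this
      exact_mod_cast Nat.pos_of_mul_pos_left this)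
    (mul_left_cancel₀ (pow_ne_zero 2 hm0) (by
      rw [sum_congr rfl fun χ hχ => by rw [he χ hχ], hm] at s1
      rw [mul_sum, mul_comm _ 8]
      exact_mod_cast (sum_congr rfl fun χ _ => by ring).trans s1))
    (mul_left_cancel₀ (mul_ne_zero hA0 (pow_ne_zero 2 hn0)) (by
      rw [sum_congr rfl fun χ hχ => by rw [hd χ hχ]] at s2
      have : (Nat.card A : ℤ) * ∑ χ ∈ ovr μ, n * d χ * (n * d χ) = 4 * Nat.card A * n ^ 2 := by
        exact_mod_cast s2
      rw [mul_assoc, mul_sum, sum_congr rfl (g := fun χ => n * d χ * (n * d χ))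
        fun χ _ => by ring, this]
      ring))
    (mul_left_cancel₀ (mul_ne_zero hm0 hn0) (by
      rw [sum_congr rfl fun χ hχ => by rw [hd χ hχ, he χ hχ]] at s3
      rw [mul_sum, mul_zero, sum_congr rfl (g := fun χ => m * e χ * (n * d χ)) fun χ _ => by ring]
      exact_mod_cast s3))
    (mul_left_cancel₀ hm0 (by
      rw [sum_congr rfl fun χ hχ => by rw [he χ hχ]] at s4
      rw [mul_sum, mul_zero, sum_congr rfl (g := fun χ => m * e χ * v χ) fun χ _ => by ring]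
      exact_mod_cast s4))
    (mul_left_cancel₀ hn0 (by
      rw [sum_congr rfl fun χ hχ => by rw [hd χ hχ]] at s5
      rw [mul_sum, mul_zero, sum_congr rfl (g := fun χ => n * d χ * v χ) fun χ _ => by ring]
      exact_mod_cast s5))
    (mul_left_cancel₀ hA0 (by
      have : (Nat.card A : ℤ) * ∑ χ ∈ ovr μ, v χ * v χ = Nat.card A * A.relIndex K * (2 * 4) := by
        exact_mod_cast s6
      rw [this]; ring))
    (fun χ hχ => by
      have h1 := Agent.FT.card_mul_fxDim χ.isCharacter (D : Subgroup G)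
      have h4 : ∀ i : ℕ, χ.1 (σ ^ i * τ) = v χ := fun i =>
        (χ.isClassFunction.eq_of_isConj (hone i)).trans (hv χ)
      have h5 : χ.1 σ⁻¹ = w χ :=
        (χ.isClassFunction.eq_of_isConj (hD.isConj_inv (mem_zpowers σ))).symm.trans (hw χ)
      rw [sum_dih hD, hD.card_eq, hσ] at h1
      simp only [sum_range_succ, range_zero, sum_empty, h4] at h1
      rw [pow_zero, pow_one, hσ3, h5, χ.apply_one, hv, hw, he χ hχ, hd χ hχ] at h1
      refine ⟨Agent.FT.fxDim χ.1 D, Int.cast_injective (α := ℂ) ?_⟩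
      push_cast at h1 ⊢
      linear_combination -h1)
    fun χ hχ => by
      have := χ.isCharacter.int_modEq_charDegree Nat.prime_two (k := 2) hσ4 (hw χ)
      rw [hd χ hχ, he χ hχ] at this
      exact_mod_cast this
  -- the four-subgroups
  have key : ∀ t, IsDihPair (D : Subgroup G) σ t → ∃ s r, s ∣ 3 ∧
      Nat.card (K ⊓ C((D : Subgroup G) ⊓ centralizer {t}) : Subgroup G) =
        Nat.card A * (s * r ^ 2) := fun t ht =>
    four_local hA ho hD hσ hP hi (by rw [(dih_four ht hσ).card_eq, hz2]) (fun g => by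
      rw [Subgroup.mem_inf, hK]
      exact ⟨fun h => ⟨h.2, h.1.2⟩, fun h => ⟨⟨mem_centralizer_singleton_iff.2
        (h.1 _ (dih_four ht hσ).mem_σ).symm, h.2⟩, h.1⟩⟩) (hKi _) (hF ψ hψ)
  obtain ⟨s, r, hs, e1⟩ := key τ hD
  obtain ⟨s', r', hs', e2⟩ := key _ hD'
  have hW := wielandt hD hσ hP (K := K) (fun g hg => mem_normalizer_of_forall_conj_mem fun x hx =>
    (hK _).2 ⟨mul_mem (mul_mem (hD.le_centralizer hz hz2 hg) ((hK x).1 hx).1)
      (inv_mem (hD.le_centralizer hz hz2 hg)), orderOf_conj_eq g x ▸ ((hK x).1 hx).2⟩) hK2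
  have hc := hKi C((D : Subgroup G))
  rw [e1, e2, centralizer_zpowers, centralizer_zpowers,
    inf_eq_left (b := centralizer {σ ^ 2}).2 fun g hg => ((hK g).1 hg).1,
    ← card_mul_relIndex hAK, show Nat.card (K ⊓ centralizer {σ} : Subgroup G) =
      Nat.card A * n ^ 2 by rw [mul_assoc] at hn; omega] at hW
  generalize Nat.card (K ⊓ C((D : Subgroup G)) : Subgroup G) = c at hW hc
  have h8 : c ^ 2 * A.relIndex K = (r * r' * n * Nat.card A) ^ 2 * (s * s') :=
    Nat.eq_of_mul_eq_mul_left (Nat.card_pos (α := A)) (by linear_combination hW)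
  have hsq : ∀ x : ℕ, x ^ 2 % 8 = 1 ∧ x % 2 = 1 ∨ x ^ 2 % 4 = 0 ∧ x % 2 = 0 := fun x => by
    rw [Nat.pow_mod x 2 8, Nat.pow_mod x 2 4, ← Nat.mod_mod_of_dvd x (show 4 ∣ 8 by decide),
      ← Nat.mod_mod_of_dvd x (show 2 ∣ 8 by decide)]
    have := Nat.mod_lt x (show 0 < 8 by decide)
    interval_cases x % 8 <;> decide
  have h9 := congrArg (· % 8) h8
  have a1 := hsq c
  have a2 := hsq (r * r' * n * Nat.card A)
  simp only [Nat.mul_mod (c ^ 2), show c ^ 2 % 8 = 1 by omega] at h9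
  generalize (r * r' * n * Nat.card A) ^ 2 = x at h9 a2
  rcases (Nat.dvd_prime Nat.prime_three).1 hs with rfl | rfl <;>
    rcases (Nat.dvd_prime Nat.prime_three).1 hs' with rfl | rfl <;> omega

end Cfsg.Fr
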