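import Cfsg.Agent.Fr.Basic
import Cfsg.Agent.Grp.Transfer
import Cfsg.Agent.Blk.AbFreeC
import Cfsg.Agent.Fr.SixteenB

/-!
# Nonabelian Sylow `2`-subgroups of order 16 with a nondegenerate pairing (project S4562)

Proof (the files `SixteenA`, `SixteenB` use `β` only in (1), (2)).  Write `Z = Z(P)`.
(1) `|Z| = 4`.  `P / Z` is not cyclic, so `|Z| ≤ 4`.  Suppose `Z = ⟨z⟩` has order 2.  Take a normal
subgroup `N` of order 4 of `P`; `B = C_P(N)` has index 2 (index `≤ 2` as `P` acts on the two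
elements of `N \ Z`, and `N ⊄ Z`), contains `N` centrally with index 2, so `B` is abelian of order 8
and `C_P(g) = B` for `g ∈ B \ Z`.  So the radical of `β` on `B` lies in `Z`; `B / rad` carries a
nondegenerate alternating form, so (order 8 or 4, `B/rad` cyclic-by-... : easiest: if `b ∈ B` has
`b² ∉ Z` then `B = ⟨b⟩` or `B = ⟨b, c⟩` with `c² ∈ ⟨b²⟩`-type, and `β(b², ·) = 1` on `B`)
`b² ∈ Z` for all `b ∈ B`.  Let `s ∈ P \ B`; `C_B(s) = Z`, so `b ↦ b⁻¹ s b s⁻¹` is an endomorphism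
of `B` with kernel `Z` and image of order 4; pick `b` with `d = b⁻¹ s b s⁻¹ ∉ Z`.  `s² ∈ B` gives
`b = s² b s⁻² = b d (s d s⁻¹)`, so `s d s⁻¹ = d⁻¹`, hence `d² ≠ 1` (as `d ∉ Z`), while
`s b² s⁻¹ = b² d²` and `b² ∈ Z` give `d² = 1`.  Contradiction.
(2) `P / Z` is a four-group `⟨x, y⟩`, `z = [x, y]` has order 2, `P' = ⟨z⟩`.  For `u ∈ Z`, `β(u, ·)` is a
homomorphism on `P`, trivial on `z`, hence (alternating, `Z/⟨z⟩` cyclic) trivial on `Z`; it is
nontrivial for `u ≠ 1`; `β(u², g) = β(u, g²) = 1`, so `Z = {1, z, c, cz}` is elementary and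
`u ↦ ker β(u, ·) = M_u` gives the three (abelian) maximal subgroups over `Z`.  Choose
`x ∈ M_z \ Z`, `y ∈ M_c \ Z`, so `xy ∈ M_{cz}`.  As `β(g², g) = 1`: `x² ∈ {1, z}`, `y² ∈ {1, c}`,
`(xy)² ∈ {1, cz}` and `(xy)² = x² y² z`.  So (I) `x² = z, y² = 1 = (xy)²` (`P = ⟨c⟩ × D₈`) or
(II) `x² = 1, y² = c, (xy)² = cz`.
(3) `z, c, cz` are pairwise not conjugate in `G`: conjugate ones are conjugate under `N(P)`
(`exists_mem_normalizer_conj_eq`), `N(P) = K P` with `K` of odd order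
(`exists_complement_sylow_normalizer`, or take odd parts), `K` fixes `z` (as `P' = ⟨z⟩`), so it
fixes `c` and `cz`.
(4) `G` has a subgroup `G₀` of index 2.  (II): `E = M_z` is elementary and `P \ E` consists of
elements of order 4, so the focal subgroup lies in `E` (`focalSubgroup_le_iff`,
`pResidual_ne_top_of_focalSubgroup_ne`, `exists_normal_index_eq_prime_of_pResidual_ne_top`).
(I): suppose not; Thompson's transfer lemma (grep `thompson` / Grp/SmallTwo, Grp/Tame) for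
`M_z ≅ C4 × C2` (involutions `z, c, cz`) makes each of `y, yc, w = xy, wc` conjugate to an element
`u ∈ Z`.  If `g y g⁻¹ = u`, adjust `g` by `C(u)` so that `g E g⁻¹ ≤ P` (`E = M_c = C_P(y)`); then
`g E g⁻¹ ∈ {E, E'}` (`E' = M_{cz}`), the radicals of `β` on `E`, `E'` are `⟨c⟩`, `⟨cz⟩`, and `c ≁ cz`, so
`g` normalizes `E` and fixes `c`; hence `u ≠ c` and one of `y, yc`, call it `y'`, is conjugate to
`z`.  Likewise `w' ∈ {w, wc}` (use `cz` for `c`).  `D = ⟨y', w'⟩` has index 2 in `P`, `c ∉ D`, and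
all involutions of `D` (`z, y', y'z, w', w'z`) are conjugate to `z`; Thompson puts `c` into `D`,
contradicting (3).
(5) `P₀ = P ∩ G₀` has order 8.  If `P₀` is abelian then `Z ≤ P₀`.  Let `X` be the last term of the
derived series (perfect, normal, `G / X` solvable, `X ≤ G₀`).  If `8 ∣ |X|` then `P₀` is a Sylow
subgroup of `X`; `N_X(P₀)` has no fixed point `≠ 1` on `P₀`
(`commutator_inf_sylow_inf_centralizer_normalizer`) and its orbits have odd length, so the orbits
of `z, c, cz` are three distinct orbits of length `≥ 3` in `P₀ \ 1`, which has 7 elements.  So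
`K = X` gives the first alternative.  If `P₀` is not abelian we are in case (I), `c ∉ P₀`, `cz ∉ P₀`,
and `P₀ = ⟨y', w'⟩` is dihedral with `σ = y' w'`, `τ = y'` (`y' ∈ {y, yc}`, `w' ∈ {w, wc}`).  If `G₀`
has a subgroup of index 2, then `X` lies in it and `K = X` works again; otherwise the second
alternative holds.
-/

set_option autoImplicit false
set_option linter.unusedSectionVars false
set_option linter.unusedVariables false

namespace Cfsg.Fr

open Subgroup Finset

universe u v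

variable {G : Type u} [Group G] [Finite G] {M : Type v} [CommGroup M] {β : G → G → M}

local notation "C(" Q ")" => Subgroup.centralizer (SetLike.coe (A := Subgroup _) Q)

theorem exists_perfect_normal (G : Type u) [Group G] [Finite G] :
    ∃ X : Subgroup G, ∃ _ : X.Normal, Group.IsSolvable (G ⧸ X) ∧ ⁅X, X⁆ = X := by
  obtain ⟨_, ⟨n, rfl⟩, hn⟩ := Set.exists_min_image _ (fun X : Subgroup G => Nat.card X)
    (Set.toFinite (Set.range (derivedSeries G))) ⟨_, 0, rfl⟩
  have := derivedSeries_normal G n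
  refine ⟨_, this, ⟨n, ?_⟩, eq_of_le_of_card_ge (commutator_le_left _ _) (hn _ ⟨n + 1, rfl⟩)⟩
  rw [← map_derivedSeries_eq (QuotientGroup.mk'_surjective _), QuotientGroup.map_mk'_self]

theorem commutator_mem_of_index_two {L : Subgroup G} (hL : L.index = 2) (a b : G) :
    a * b * a⁻¹ * b⁻¹ ∈ L := by
  simp only [mul_mem_iff_of_index_two hL, inv_mem_iff]
  tauto

theorem not_dvd_of_comm {P : Sylow 2 G} {z : G} (h : IsZ4 (P : Subgroup G) z)
    (h16 : Nat.card (P : Subgroup G) = 16) {K X : Subgroup G} [X.Normal] (hX : ⁅X, X⁆ = X)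
    (hle : X ≤ K) (h8 : Nat.card ((P : Subgroup G) ⊓ K : Subgroup G) = 8)
    (hZ : (P : Subgroup G) ⊓ C((P : Subgroup G)) ≤ K) : ¬ 8 ∣ Nat.card X := fun hd => by
  have h1 : (P : Subgroup G) ⊓ X = (P : Subgroup G) ⊓ K := eq_of_le_of_card_ge (inf_le_inf_left _ hle) (by
    rw [h8, ← map_sylowInfNormal, card_map_subtype]
    rw [← (sylowInfNormal P X : Subgroup X).card_mul_index] at hd
    exact Nat.le_of_dvd Nat.card_pos ((Nat.Coprime.pow_left 3 ((Nat.Prime.coprime_iff_not_dvd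
      Nat.prime_two).2 (sylowInfNormal P X).not_dvd_index)).dvd_of_dvd_mul_right hd))
  have h2 : (P : Subgroup G) ⊓ K ≤ C((P : Subgroup G) ⊓ K) :=
    (idx2_of_card (le_inf inf_le_left hZ) (by rw [h8, card_cent h h16])).le_cent
      fun a ha b hb => ha.2 b hb.1
  have h3 : ∀ a : X, a ∈ (sylowInfNormal P X : Subgroup X) ↔ (a : G) ∈ (P : Subgroup G) ⊓ K :=
    fun a => by rw [← h1]; exact ⟨fun e => ⟨e, a.2⟩, fun e => e.1⟩
  have h4 : ∀ a ∈ (sylowInfNormal P X : Subgroup X), ∀ b ∈ (sylowInfNormal P X : Subgroup X),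
      a * b = b * a := fun a ha b hb => Subtype.ext (h2 ((h3 b).1 hb) a ((h3 a).1 ha))
  have : IsMulCommutative (sylowInfNormal P X : Subgroup X) :=
    ⟨⟨fun a b => Subtype.ext (h4 a a.2 b b.2)⟩⟩
  have h5 := commutator_inf_sylow_inf_centralizer_normalizer (sylowInfNormal P X)
  rw [show _root_.commutator X = ⊤ from map_injective X.subtype_injective (by
    rw [commutator_def, map_commutator, ← MonoidHom.range_eq_map, range_subtype, hX]), top_inf_eq] at h5
  generalize sylowInfNormal P X = R at *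
  have key : ∀ u ∈ (P : Subgroup G) ⊓ C((P : Subgroup G)), u ≠ 1 →
      2 < {a | a ∈ (P : Subgroup G) ⊓ K ∧ IsConj u a}.ncard := fun u hu u1 => by
    have hu' : u ∈ (P : Subgroup G) ⊓ K := ⟨hu.1, hZ hu⟩
    obtain ⟨v, rfl⟩ : ∃ v : X, (v : G) = u := ⟨⟨u, (h1.ge hu').2⟩, rfl⟩
    by_contra H
    refine u1 (congrArg Subtype.val (mem_bot.1 (h5.le ⟨(h3 v).2 hu', fun n hn =>
      mem_centralizer_singleton_iff.1 (le_of_forall_isPElt_mem (K := centralizer {v})
        (fun q hq n hn hq' => ?_) hn)⟩)))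
    by_cases e : q = 2
    · subst e
      exact mem_centralizer_singleton_iff.2 (h4 n (((isPElt_iff_isPGroup_zpowers.1
        hq').inf_normalizer_sylow R).le ⟨mem_zpowers n, hn⟩).2 v ((h3 v).2 hu'))
    by_contra hc
    have a1 := conj_mem_of_mem_normalizer hn ((h3 v).2 hu')
    have a2 : n * v * n⁻¹ ≠ v := fun e => hc (mem_centralizer_singleton_iff.2 (conj_eq_iff_comm.1 e))
    refine H ((Set.two_lt_ncard_iff (Set.toFinite _)).2 ⟨v, (n * v * n⁻¹ : X),
      (n * (n * v * n⁻¹) * n⁻¹ : X), ⟨hu', IsConj.refl _⟩, ⟨(h3 _).1 a1, isConj_iff.2 ⟨n, rfl⟩⟩,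
      ⟨(h3 _).1 (conj_mem_of_mem_normalizer hn a1), isConj_iff.2 ⟨n * n, by push_cast; group⟩⟩,
      fun e => a2 (Subtype.ext e.symm), fun e' => hc ?_, fun e => a2 ?_⟩)
    · have a3 : n ^ 2 ∈ centralizer {v} := mem_centralizer_singleton_iff.2 (conj_eq_iff_comm.1
        (Eq.trans (by rw [pow_two]; group) (Subtype.ext e').symm))
      exact zpowers_le.2 a3 (mem_zpowers_pow_iff.2 ((Nat.Prime.coprime_iff_not_dvd
        Nat.prime_two).2 (hq'.isPRegular_of_ne e)))
    · simpa using (Subtype.ext e : n * v * n⁻¹ = _).symm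
  obtain ⟨c, hc, c1⟩ := SetLike.not_le_iff_exists.1
    fun e' : (P : Subgroup G) ⊓ C((P : Subgroup G)) ≤ zpowers z => by
      have := card_le_of_le e'
      rw [card_cent h h16, Nat.card_zpowers, orderOf_eq_two_of_mul_self h.sq h.ne] at this
      omega
  have c2 : c * z ∉ zpowers z := by rwa [mul_mem_cancel_right (mem_zpowers z)]
  rw [mem_zpowers_z h, not_or] at c1 c2
  have hz : z ∈ (P : Subgroup G) ⊓ C((P : Subgroup G)) := ⟨h.mem, h.cent⟩
  have dj : ∀ u ∈ (P : Subgroup G) ⊓ C((P : Subgroup G)), ∀ v ∈ (P : Subgroup G) ⊓ C((P : Subgroup G)),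
      u ≠ v → Disjoint {a | a ∈ (P : Subgroup G) ⊓ K ∧ IsConj u a}
        {a | a ∈ (P : Subgroup G) ⊓ K ∧ IsConj v a} := fun u hu v hv e =>
    Set.disjoint_left.2 fun a h1 h2 => by
      obtain ⟨g, hg⟩ := isConj_iff.1 (h1.2.trans h2.2.symm)
      exact e ((conj_eq_of_cent h h16 hu (hg ▸ hv.2)).symm.trans hg)
  have b1 := key z hz h.ne
  have b2 := key c hc c1.1
  have b3 := key _ (mul_mem hc hz) c2.1
  have b4 := Set.ncard_le_ncard (t := ((P : Subgroup G) ⊓ K : Subgroup G)) (Set.union_subset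
    (Set.union_subset (fun a (ha : a ∈ {a | a ∈ (P : Subgroup G) ⊓ K ∧ IsConj z a}) => ha.1)
      fun a (ha : a ∈ {a | a ∈ (P : Subgroup G) ⊓ K ∧ IsConj c a}) => ha.1)
    fun a (ha : a ∈ {a | a ∈ (P : Subgroup G) ⊓ K ∧ IsConj (c * z) a}) => ha.1)
  rw [Set.ncard_union_eq (Set.disjoint_union_left.2 ⟨dj _ hz _ (mul_mem hc hz) (Ne.symm c2.2),
    dj _ hc _ (mul_mem hc hz) (by simpa using h.ne)⟩), Set.ncard_union_eq (dj _ hz _ hc (Ne.symm c1.2)),
    ← Nat.card_coe_set_eq (SetLike.coe _)] at b4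
  change _ ≤ Nat.card ((P : Subgroup G) ⊓ K : Subgroup G) at b4
  omega

theorem sixteen (hβ : IsPairing β) (P : Sylow 2 G) (h16 : Nat.card (P : Subgroup G) = 16)
    (hna : ¬ IsMulCommutative (P : Subgroup G)) (hnd : Nondeg β P) :
    (∃ K : Subgroup G, ∃ _ : K.Normal, Group.IsSolvable (G ⧸ K) ∧ ¬ 8 ∣ Nat.card K) ∨
    ∃ K : Subgroup G, K.index = 2 ∧ (∀ L : Subgroup K, L.index ≠ 2) ∧
      ∃ (D : Sylow 2 K) (σ τ : K), IsDihPair (D : Subgroup K) σ τ ∧ orderOf σ = 4 := by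
  obtain ⟨z, h⟩ := exists_isZ4 hβ h16 (fun e => hna ⟨⟨fun a b => Subtype.ext (e b.2 a a.2)⟩⟩) hnd
  obtain ⟨hZ, x, hx, y, hy, e, H⟩ := exists_cases hβ h16 hnd h
  obtain ⟨K, hK⟩ : ∃ K : Subgroup G, K.index = 2 :=
    H.elim (fun H => exists_index_two_dih h h16 hZ hx hy e H.1 H.2)
      fun H => exists_index_two h h16 hZ hx hy e H.1 H.2.1 H.2.2
  have := normal_of_index_eq_two hK
  have h8 : Nat.card ((P : Subgroup G) ⊓ K : Subgroup G) = 8 := by
    have h1 := card_mul_relIndex (inf_le_left : (P : Subgroup G) ⊓ K ≤ P)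
    rw [inf_relIndex_left, h16, ((Nat.dvd_prime Nat.prime_two).1
      ((relIndex_dvd_index_of_normal K P).trans hK.dvd)).resolve_left fun e =>
        P.not_dvd_index (hK.symm.dvd.trans (index_dvd_of_le (relIndex_eq_one.1 e)))] at h1
    omega
  obtain ⟨X, _, hs, hX⟩ := exists_perfect_normal G
  have hle : X ≤ K := hX.ge.trans (commutator_le.2 fun a _ b _ => commutator_mem_of_index_two hK a b)
  by_cases hZK : (P : Subgroup G) ⊓ C((P : Subgroup G)) ≤ K
  · exact Or.inl ⟨X, inferInstance, hs, not_dvd_of_comm h h16 hX hle h8 hZK⟩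
  by_cases hL : ∃ L : Subgroup K, L.index = 2
  · obtain ⟨L, hL⟩ := hL
    refine Or.inl ⟨X, inferInstance, hs, fun hd => P.not_dvd_index ?_⟩
    have h1 := hd.trans (card_dvd_of_le (K := L.map K.subtype) (hX.ge.trans (commutator_le.2
      fun a ha b hb => ⟨_, commutator_mem_of_index_two hL ⟨a, hle ha⟩ ⟨b, hle hb⟩, rfl⟩)))
    have h2 := L.card_mul_index
    have h3 := K.card_mul_index
    have h4 := (P : Subgroup G).card_mul_index
    rw [card_map_subtype] at h1
    rw [hL] at h2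
    rw [hK] at h3
    rw [h16] at h4
    omega
  push Not at hL
  obtain ⟨c, hc, c1⟩ := SetLike.not_le_iff_exists.1 hZK
  have hz : z ∈ K := by
    have := commutator_mem_of_index_two hK x⁻¹ y
    rwa [inv_inv, mul_assoc x⁻¹, mul_assoc x⁻¹, h.conj_of_ne hy hx e, inv_mul_cancel_left] at this
  rcases H with ⟨x2, y2⟩ | ⟨-, y1, y2⟩
  swap
  · have := mul_self_mem_of_index_two hK y
    rcases cases_cent h h16 ⟨mul_mem hy hy, h.sq_cent hy⟩ y1 y2 hc with rfl | rfl | rfl | rfl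
    exacts [absurd (one_mem _) c1, absurd hz c1, absurd this c1, absurd (mul_mem this hz) c1]
  have key : ∀ a ∈ (P : Subgroup G), ∃ u ∈ (P : Subgroup G) ⊓ C((P : Subgroup G)), a * u ∈ K :=
    fun a _ => (em (a ∈ K)).elim (fun e => ⟨1, one_mem _, by rwa [mul_one]⟩) fun e =>
      ⟨c, hc, (mul_mem_iff_of_index_two hK).2 (iff_of_false e c1)⟩
  have sq : ∀ a ∈ (P : Subgroup G), ∀ u ∈ (P : Subgroup G) ⊓ C((P : Subgroup G)),
      a * u * (a * u) = a * a := fun a ha u hu => by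
    rw [(show Commute a u from hu.2 a ha).symm.mul_mul_mul_comm, hZ u hu, mul_one]
  obtain ⟨u, hu, mu⟩ := key x hx
  obtain ⟨v, hv, mv⟩ := key y hy
  have a1 := (sq x hx u hu).trans x2
  have a2 := (sq y hy v hv).trans y2
  have a3 : y * v * (x * u) ≠ x * u * (y * v) := fun e' => e (by
    have k : ∀ {a b w : G}, Commute a (b * w) → Commute a w → Commute a b := fun h1 h2 => by
      simpa using h1.mul_right h2.inv_right
    exact (k (k e' (hu.2 _ (mul_mem hy hv.1))).symm (hv.2 x hx)).symm)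
  have ma := mul_mem hx hu.1
  have mb := mul_mem hy hv.1
  generalize x * u = σ at *
  generalize y * v = τ at *
  have a5 : orderOf (⟨σ, mu⟩ : K) = 4 := by
    rw [← Subgroup.orderOf_coe]
    exact orderOf_eq_prime_pow (p := 2) (n := 1) (by rw [pow_one, pow_two, a1]; exact h.ne)
      (by rw [show 2 ^ (1 + 1) = 2 * 2 from rfl, pow_mul, pow_two, pow_two, a1, h.sq])
  have a6 : (⟨τ, mv⟩ : K) ∉ zpowers (⟨σ, mu⟩ : K) := fun e' =>
    a3 (congrArg Subtype.val (comm_zpowers e' (mem_zpowers _)))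
  refine Or.inr ⟨K, hK, hL, sylowInfNormal P K, ⟨σ, mu⟩, ⟨τ, mv⟩, ⟨ma, mb, Subtype.ext a2,
    Subtype.ext ((h.conj_of_ne mb ma a3).trans (eq_inv_of_mul_eq_one_right
      (by rw [← mul_assoc, a1, h.sq]))), a6, fun g hg => (em _).imp_right fun e' => ?_⟩, a5⟩
  exact (idx2_of_card (P := (sylowInfNormal P K : Subgroup K)) (zpowers_le.2 ma) (by
    rw [← card_map_subtype, map_sylowInfNormal, h8, Nat.card_zpowers, a5])).mul g hg _ mb e' a6

end Cfsg.Fr
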