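import Cfsg.Agent.Fr.Abel
import Cfsg.Agent.Fr.Sixteen
import Cfsg.Agent.Fr.Dih

/-!
# The group theoretic core of S4562
-/

set_option autoImplicit false
set_option linter.unusedSectionVars false
set_option linter.unusedVariables false

namespace Cfsg.Fr

open Subgroup Finset

universe u v

variable {G : Type u} [Group G] [Finite G] {M : Type v} [CommGroup M] {A : Subgroup G}

theorem mem_zpowers_of_commute (D : Sylow 2 G) {σ τ : G} (hD : IsDihPair (D : Subgroup G) σ τ)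
    (hσ : orderOf σ = 4) {c : G} (hc : IsPElt 2 c) (h : Commute σ c) : c ∈ zpowers σ := by
  have hn : zpowers c ≤ normalizer (zpowers σ : Set G) := by
    refine zpowers_le.2 (centralizer_le_normalizer _ ?_)
    rintro _ ⟨k, rfl⟩
    exact (h.zpow_left k).eq
  obtain ⟨g, hg⟩ := exists_map_conj_le_of_not_dvd_relIndex (H := ⊤) D.isPGroup'
    (by simpa using D.not_dvd_index) ((isPElt_iff_isPGroup_zpowers.1 hc).to_sup_of_normal_right'
      (isPElt_iff_isPGroup_zpowers.1 ⟨2, hσ⟩) hn) le_top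
  have h1 : g * c * g⁻¹ ∈ (D : Subgroup G) := hg.2 ⟨c, mem_sup_left (mem_zpowers c), rfl⟩
  have h2 : g * σ * g⁻¹ ∈ (D : Subgroup G) := hg.2 ⟨σ, mem_sup_right (mem_zpowers σ), rfl⟩
  have h4 : ¬ g * σ * g⁻¹ * (g * σ * g⁻¹) = 1 := fun e => by
    rw [conj_mul, conj_eq_one_iff, ← pow_two, ← orderOf_dvd_iff_pow_eq_one, hσ] at e
    omega
  have h3 : g * σ * g⁻¹ ∈ zpowers σ := by_contra fun e => h4 (hD.mul_self_of_notMem h2 e)
  have h5 : g * c * g⁻¹ ∈ zpowers σ := by_contra fun e => h4 (by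
    have := hD.conj_of_notMem h1 e h3
    rw [conj_mul, h.symm.eq, ← conj_mul, mul_inv_cancel_right] at this
    exact mul_eq_one_iff_eq_inv.2 this)
  have h6 := mem_zpowers_of_orderOf_dvd_of_mem h3 h5 (by
    rw [orderOf_conj_eq g σ]; exact orderOf_dvd_of_mem_zpowers h5)
  obtain ⟨k, hk⟩ := mem_zpowers_iff.1 h6
  rw [conj_zpow, mul_left_inj, mul_right_inj] at hk
  exact hk ▸ zpow_mem (mem_zpowers σ) k

theorem eq_one_of_pow_of_pow {x : M} {k n : ℕ} (h1 : x ^ 2 ^ k = 1) (h2 : x ^ n = 1)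
    (hn : ¬ 2 ∣ n) : x = 1 := by
  have := pow_gcd_eq_one.2 ⟨h1, h2⟩
  rwa [Nat.Coprime.gcd_eq_one (((Nat.Prime.coprime_iff_not_dvd Nat.prime_two).2 hn).pow_left k),
    pow_one] at this

theorem Ctr.le_of_index_two (hA : Ctr A) {K : Subgroup G} (hK : K.index = 2) : A ≤ K := by
  intro a ha
  obtain ⟨k, hk⟩ := exists_pow_eq_self_of_coprime (x := a) (n := 2)
    ((Nat.Prime.coprime_iff_not_dvd Nat.prime_two).2 (hA.not_two_dvd ha))
  exact hk ▸ pow_mem (sq_mem_of_index_two hK a) k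

theorem core {β : G → G → M} (hA : Ctr A) (ho : OddBad A) (hβ : IsPairing β)
    (hM : ∀ a b, Commute a b → ∃ k, β a b ^ 2 ^ k = 1) (P : Sylow 2 G) (hnd : Nondeg β P)
    (hP : IsMulCommutative (P : Subgroup G) ∨ Nat.card (P : Subgroup G) = 16) {e : ℕ}
    (he : A.index = e ^ 2)
    (h2 : ∀ K : Subgroup G, K.index = 2 → ∀ g₁ ∈ K, ∀ g₂ ∈ K, g₁ ∉ A → g₂ ∉ A →
      (∀ c ∈ K, ∀ a ∈ A, c * g₁ * c⁻¹ = a * g₁ → a = 1 ∧ β g₁ c = 1) →
      (∀ c ∈ K, ∀ a ∈ A, c * g₂ * c⁻¹ = a * g₂ → a = 1 ∧ β g₂ c = 1) →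
      ∃ a ∈ A, IsConj (a * g₂) g₁) : Group.IsSolvable G := by
  by_cases hab : IsMulCommutative (P : Subgroup G)
  · exact solvable_of_abelian _ G A β P rfl hA (ho.invBad hA) hβ
      (le_centralizer_iff_isMulCommutative.2 hab) hnd
  rcases sixteen hβ P (hP.resolve_left hab) hab hnd with
    ⟨K, _, h1, h3⟩ | ⟨K, hK, h1, D, σ, τ, hD, hσ⟩
  · haveI := solvable_of_not_eight_dvd _ K _ rfl (hA.subgroupOf K) ((ho.invBad hA).normal hA K) h3
    exact Group.isSolvable_of_ker_le_range K.subtype (QuotientGroup.mk' K) (by simp)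
  exfalso
  have hAK := hA.le_of_index_two hK
  have h3 : A.relIndex K * 2 = e ^ 2 := by rw [← he, ← relIndex_mul_index hAK, hK]
  have h4 : 8 ∣ A.relIndex K := by
    have h5 := card_subgroup_dvd_card (D : Subgroup K)
    rw [hD.card_eq, hσ, ← card_mul_relIndex hAK] at h5
    exact (((Nat.Prime.coprime_iff_not_dvd Nat.prime_two).2 hA.odd).pow_left 3).dvd_of_dvd_mul_left
      h5
  obtain ⟨m, rfl⟩ : 4 ∣ e := (Nat.pow_dvd_pow_iff two_ne_zero).1 (h3 ▸ Nat.mul_dvd_mul_right h4 2)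
  refine false_of_dih (hA.subgroupOf K) (ho.index_two hA hK) D hD hσ h1 (m := m)
    (by change A.relIndex K = _; nlinarith) fun y hy hyo hyA => by_contra fun hn => ?_
  push Not at hn
  have hσ2 : IsPElt 2 (σ : G) := ⟨2, by rw [Subgroup.orderOf_coe, hσ]; rfl⟩
  have hyo' : IsPRegular 2 (y : G) := by rwa [IsPRegular, Subgroup.orderOf_coe]
  have hy' : Commute (σ : G) y := congrArg Subtype.val hy
  have hodd : ∀ a b, Commute a b → ¬ 2 ∣ orderOf b → β a b = 1 := fun a b h hb => by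
    obtain ⟨k, hk⟩ := hM a b h
    exact eq_one_of_pow_of_pow hk (by rw [← hβ.pow_right h, pow_orderOf_eq_one, hβ.one_right]) hb
  have hβσ : ∀ c ∈ K, Commute (σ : G) c → β σ c = 1 := fun c hc h => by
    have h5 := mem_zpowers_of_commute D hD hσ (isPElt_pPart (p := 2) ⟨c, hc⟩)
      (commute_pPart_of_commute 2 (show Commute σ ⟨c, hc⟩ from Subtype.ext h))
    rw [← pPart_mul_pPrimePart 2 c, hβ.mul_right _ _ _ (commute_pPart_of_commute 2 h)
      (commute_pPrimePart_of_commute 2 h), hodd _ _ (commute_pPrimePart_of_commute 2 h)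
      (isPRegular_pPrimePart (p := 2) c), mul_one]
    refine hβ.eq_one_of_mem_zpowers ?_
    obtain ⟨k, hk⟩ := mem_zpowers_iff.1 h5
    have := congrArg Subtype.val hk
    rw [coe_pPart] at this
    exact mem_zpowers_iff.2 ⟨k, this⟩
  have hpart : ∀ a ∈ A, pPart 2 (a * (σ * y) : G) = σ ∧ pPrimePart 2 (a * (σ * y) : G) = a * y :=
    fun a ha => by
      have h5 : IsPRegular 2 (a * y : G) :=
        IsPRegular.mul_of_commute (hA.not_two_dvd ha) hyo' (hA.comm ha y).symm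
      have h6 : Commute (σ : G) (a * y) := (show Commute (σ : G) a from hA.comm ha σ).mul_right hy'
      rw [← mul_assoc, ← hA.comm ha, mul_assoc]
      exact ⟨pPart_mul_eq h6 hσ2 h5, pPrimePart_mul_eq h6 hσ2 h5⟩
  have hσA : (σ : G) ∉ A := fun h => hA.not_two_dvd h (by rw [Subgroup.orderOf_coe, hσ]; decide)
  obtain ⟨a, ha, h5⟩ := h2 K hK σ σ.2 (σ * y) (mul_mem σ.2 y.2) hσA (fun h => hσA (by
      have := pPart_mem (p := 2) h
      rwa [pPart_mul_eq hy' hσ2 hyo'] at this))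
    (fun c hc a ha h => by
      obtain rfl : a = 1 := by_contra fun h1 => hA.not_bad hσ2 ⟨c, a, ha, h1, h⟩
      exact ⟨rfl, hβσ c hc (mul_inv_eq_iff_eq_mul.1 (h.trans (one_mul _))).symm⟩)
    fun c hc a ha h => by
      have h5 := congrArg (pPart 2) h
      have h6 := congrArg (pPrimePart 2) h
      rw [pPart_conj, pPart_mul_eq hy' hσ2 hyo', (hpart a ha).1] at h5
      rw [pPrimePart_conj, pPrimePart_mul_eq hy' hσ2 hyo', (hpart a ha).2] at h6
      have h7 : Commute (σ : G) c := (mul_inv_eq_iff_eq_mul.1 h5).symm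
      obtain rfl : a = 1 := by_contra fun h1 => hn ⟨c, hc⟩ (Subtype.ext h7) ⟨a, hAK ha⟩ ha
        (fun e => h1 (congrArg Subtype.val e)) (Subtype.ext h6)
      have h8 : Commute (y : G) c := (mul_inv_eq_iff_eq_mul.1 (h6.trans (one_mul _))).symm
      refine ⟨rfl, ?_⟩
      rw [hβ.mul_left _ _ _ h7 h8, hβσ c hc h7, hβ.skew h8.symm, hodd _ _ h8.symm hyo']
      simp
  have h6 := isConj_pPrimePart (p := 2) h5
  rw [(hpart a ha).2, pPrimePart_eq_one_iff.2 hσ2, isConj_one_left] at h6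
  exact hyA (show (y : G) ∈ A from eq_inv_of_mul_eq_one_right h6 ▸ inv_mem ha)

end Cfsg.Fr
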