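import Cfsg.Agent.Fr.Basic
import Cfsg.Agent.Blk.AbFreeC
import Cfsg.Agent.Blk.FrobTwo
import Cfsg.Agent.Char.NavWolf
import Cfsg.Agent.S4479

/-!
# Sylow `2`-subgroups of order at most four (project S4562)

If all elements of odd order inverted by involutions are bad, the class sum `t` of the involutions
satisfies `ω(t)² = |T| + n ω(t)` on the characters faithful on `A`.  A block of maximal defect gives
`4 |T| = 3 n²`, which contradicts the order formula of the principal block of a perfect group.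
-/

set_option autoImplicit false
set_option linter.unusedSectionVars false
set_option linter.unusedVariables false

namespace Cfsg.Fr

open Subgroup Finset
open scoped ComplexConjugate

universe u

variable {G : Type u} [Group G] [Finite G] {A : Subgroup G}

local notation "C(" Q ")" => Subgroup.centralizer (SetLike.coe (Q : Subgroup _))
local notation "N(" Q ")" => Subgroup.normalizer (SetLike.coe (Q : Subgroup _))

theorem Ctr.mem_normalizer (hA : Ctr A) {y c : G} (h : c * y * c⁻¹ ∈ A ⊔ zpowers y) :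
    c ∈ N(A ⊔ zpowers y) := by
  refine mem_normalizer_of_map_conj_le ?_
  rw [Subgroup.map_sup, sup_le_iff, MonoidHom.map_zpowers, zpowers_le]
  refine ⟨?_, h⟩
  rintro _ ⟨a, ha, rfl⟩
  exact mem_sup_left (by simpa [hA.cj ha] using ha)

theorem Ctr.centralizer_sup (hA : Ctr A) (y : G) :
    C(A ⊔ zpowers y) = centralizer {y} := by
  refine le_antisymm (centralizer_le (by simpa using mem_sup_right (mem_zpowers y)))
    fun g hg => le_centralizer_iff.1 (sup_le (fun a ha => ?_) (zpowers_le.2 ?_)) (mem_zpowers g)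
  · rintro _ ⟨k, rfl⟩
    exact hA.comm ha _
  · rintro _ ⟨k, rfl⟩
    exact ((show Commute g y from mem_centralizer_singleton_iff.1 hg).zpow_left k).eq

/-- For abelian Sylow subgroups, the shift may be done inside the centralizer of a `2`-element. -/
theorem InvBad.exists_shift (hA : Ctr A) (h : InvBad A) (P : Sylow 2 G)
    (hab : (P : Subgroup G) ≤ C((P : Subgroup G))) {u y v : G} (hu : IsPElt 2 u) (huy : Commute u y)
    (huv : Commute u v) (ho : ¬ 2 ∣ orderOf y) (h1 : y ≠ 1) (hv : v * v = 1)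
    (hy : v * y * v⁻¹ = y⁻¹) : ∃ c, Commute u c ∧ ∃ a ∈ A, a ≠ 1 ∧ c * y * c⁻¹ = a * y := by
  obtain ⟨c, a, ha, ha1, hc⟩ := h y v ho h1 hv hy
  let L := N(A ⊔ zpowers y)
  let K : Subgroup L := (C(A ⊔ zpowers y)).subgroupOf L
  have hK : ∀ g : L, g ∈ K ↔ Commute (g : G) y := fun g => by
    rw [mem_subgroupOf, hA.centralizer_sup, mem_centralizer_singleton_iff]; rfl
  have hyB : y ∈ A ⊔ zpowers y := mem_sup_right (mem_zpowers y)
  let c' : L := ⟨c, hA.mem_normalizer (hc ▸ mul_mem (mem_sup_left ha) hyB)⟩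
  let v' : L := ⟨v, hA.mem_normalizer (hy ▸ inv_mem hyB)⟩
  let u' : L := ⟨u, hA.mem_normalizer (by rwa [huy.eq, mul_inv_cancel_right])⟩
  have hn : zpowers v' ≤ N(zpowers u') := by
    refine zpowers_le.2 (centralizer_le_normalizer _ ?_)
    rintro _ ⟨k, rfl⟩
    exact ((show Commute u' v' from Subtype.ext huv).zpow_left k).eq
  obtain ⟨Q, hQ⟩ := ((isPElt_iff_isPGroup_zpowers.1 (isPElt_two_of_mul_self
    (show v' * v' = 1 from Subtype.ext hv))).to_sup_of_normal_right'
    (isPElt_iff_isPGroup_zpowers.1 (isPElt_coe_iff.1 hu)) hn).exists_le_sylow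
  have hvQ : v' ∈ (Q : Subgroup L) := hQ (mem_sup_left (mem_zpowers _))
  have huQ : u' ∈ (Q : Subgroup L) ⊓ K := ⟨hQ (mem_sup_right (mem_zpowers _)), (hK _).2 huy⟩
  obtain ⟨n, hn, k, hk, e⟩ := mem_sup_of_normal_right.1
    (normalizer_sylow_inf_sup_eq_top Q K ▸ mem_top c')
  have e1 : (n : G) * y * (n : G)⁻¹ = a * y := by
    have e2 : (n : G) * k = c := congrArg Subtype.val e
    rw [← hc, ← e2, mul_assoc (n : G) k, ((hK k).1 hk).eq]
    group
  have e3 : Commute ((n : G)⁻¹ * u * n) v := commute_of_sylow_comm P hab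
    (Q.isPGroup'.map L.subtype)
    ⟨_, ((mem_normalizer_iff''.1 hn u').1 huQ).1, rfl⟩ ⟨_, hvQ, rfl⟩
  refine ⟨_, ?_, _, mul_mem ha ha, hA.mul_self_ne_one ha ha1, hA.comm_conj ha e1 hv hy⟩
  refine Commute.mul_right ?_ huv.inv_right
  have := e3.map (MulAut.conj (n : G))
  simpa [mul_assoc] using this

theorem InvBad.centralizer (hA : Ctr A) (h : InvBad A) (P : Sylow 2 G)
    (hab : (P : Subgroup G) ≤ C((P : Subgroup G))) {u : G} (hu : IsPElt 2 u) :
    InvBad (A.subgroupOf (centralizer {u})) := by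
  intro y v ho h1 hv hy
  obtain ⟨c, hc, a, ha, ha1, e⟩ := h.exists_shift hA P hab hu
    (mem_centralizer_singleton_iff.1 y.2).symm (mem_centralizer_singleton_iff.1 v.2).symm
    (by rwa [Subgroup.orderOf_coe]) (fun e => h1 (Subtype.ext e)) (congrArg Subtype.val hv)
    (congrArg Subtype.val hy)
  exact bad_subgroupOf (mem_centralizer_singleton_iff.2 hc.symm) ha ha1 e

/-- A product of two involutions that do not commute is bad. -/
theorem InvBad.bad_mul (hA : Ctr A) (h : InvBad A) (P : Sylow 2 G)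
    (hab : (P : Subgroup G) ≤ C((P : Subgroup G))) {x y : G} (hx : x * x = 1) (hy : y * y = 1)
    (hxy : ¬ Commute x y) : Bad A (x * y) := by
  obtain ⟨h1, h2⟩ := invol_mul_pPart P hab hx hy
  have hinv : x * (x * y) * x⁻¹ = (x * y)⁻¹ := by
    rw [← mul_assoc, hx, one_mul, mul_inv_rev, inv_eq_of_mul_eq_one_right hy]
  obtain ⟨c, hc, a, ha, ha1, e⟩ := h.exists_shift hA P hab (isPElt_pPart (p := 2) (x * y))
    (commute_pPart_pPrimePart 2 (x * y)) h1.symm (isPRegular_pPrimePart (p := 2) (x * y))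
    (fun h0 => hxy (by
      rw [pPart_eq_self_iff.2 (pPrimePart_eq_one_iff.1 h0)] at h1
      have := h1.eq
      rw [mul_assoc x y] at this
      exact mul_left_cancel this)) hx (by rw [← pPrimePart_conj, hinv, pPrimePart_inv])
  refine ⟨c, a, ha, ha1, ?_⟩
  conv_lhs => rw [← pPart_mul_pPrimePart 2 (x * y), ← mul_assoc, ← hc.eq, mul_assoc,
    mul_assoc, ← mul_assoc c, e, ← mul_assoc, hA.comm ha, mul_assoc, pPart_mul_pPrimePart]

open Classical in
theorem InvBad.quad [Fintype G] (hA : Ctr A) (h : InvBad A) (P : Sylow 2 G)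
    (hab : (P : Subgroup G) ≤ C((P : Subgroup G))) {J : G} (hJ2 : orderOf J = 2)
    (hone : ∀ t, orderOf t = 2 → IsConj J t) {ψ : IrrCharacter G} (hψ : Faith A ψ.1) :
    ((Subgroup.centralizer ({J} : Set G)).index : ℂ) * ψ J * ψ J = ψ 1 * (ψ 1 +
      (univ.filter fun y => IsConj J y ∧ y ≠ J ∧ Commute J y).card * ψ J) := by
  have h1 := ψ.sum_class_mul J J
  have hJ := mul_self_of_orderOf_eq_two hJ2
  rw [← add_sum_erase _ _ (a := J) (mem_filter.2 ⟨mem_univ _, IsConj.refl J⟩), hJ, ← sum_filter_add_sum_filter_not _ (Commute J),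
    sum_eq_zero (s := filter (fun y => ¬ Commute J y) _) fun y hy => hψ.apply_eq_zero
      ψ.isClassFunction (h.bad_mul hA P hab (mul_self_of_isConj_of_orderOf hJ2
      (mem_filter.1 (mem_erase.1 (mem_filter.1 hy).1).2).2) hJ
      fun e => (mem_filter.1 hy).2 e.symm), add_zero,
    sum_congr (s₂ := univ.filter fun y => IsConj J y ∧ y ≠ J ∧ Commute J y) (g := fun _ => ψ J)
      (by ext y; simp only [mem_filter, mem_erase, mem_univ, true_and]; tauto) fun y hy => ?_,
    sum_const, nsmul_eq_mul, centralChar] at h1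
  · rw [h1]
    have := ψ.apply_one_ne_zero
    change _ = ψ 1 * (_ * ψ J / ψ 1 * ψ J)
    field_simp
  · obtain ⟨-, h2, h3, h4⟩ := mem_filter.1 hy
    refine (ψ.isClassFunction.eq_of_isConj (hone _ (orderOf_eq_two_of_mul_self ?_ fun e => ?_))).symm
    · rw [mul_assoc, ← mul_assoc J, h4.eq, mul_assoc, hJ, mul_one,
        mul_self_of_isConj_of_orderOf hJ2 h2]
    · exact h3 (mul_right_cancel (e.trans hJ.symm))

open Classical in
theorem card_invol_comm [Fintype G] (P : Sylow 2 G) (hP : Nat.card (P : Subgroup G) = 4)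
    (hn : ¬ HasNormalPComplement 2 G) {J : G} (hJ : J ∈ (P : Subgroup G)) (hJ2 : orderOf J = 2) :
    (univ.filter fun y => IsConj J y ∧ y ≠ J ∧ Commute J y).card =
      2 * (C((P : Subgroup G))).relIndex (centralizer {J}) := by
  obtain ⟨hexp, hone⟩ := klein_of_not_hasNormalPComplement P hP hn hJ hJ2
  obtain ⟨τ, h⟩ := exists_isDihPair_of_card_four hP hexp hJ hJ2
  have hm := mem_zpowers J
  have hz : ∀ a ∈ zpowers J, a = 1 ∨ a = J := fun a =>
    eq_one_or_eq_of_mem_zpowers_of_orderOf_two hJ2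
  have hc : ∀ x ∈ (P : Subgroup G), ∀ y ∈ (P : Subgroup G), x * y = y * x := fun x hx y hy => by
    rw [← inv_eq_of_mul_eq_one_right (hexp _ (mul_mem hx hy)), mul_inv_rev,
      inv_eq_of_mul_eq_one_right (hexp _ hx), inv_eq_of_mul_eq_one_right (hexp _ hy)]
  obtain ⟨π, hπ1, hπ2, hπ3, hπ4⟩ := h.exists_proj P.isPGroup' P.not_dvd_index hm hJ2
  let C := centralizer ({J} : Set G)
  have hPC : (P : Subgroup G) ≤ C := h.le_centralizer hm hJ2
  have hcent : ∀ t, IsDihPair P J t → centralizer ({J, t} : Set G) = C((P : Subgroup G)) := by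
    intro t ht
    refine le_antisymm (fun g hg y hy => ?_) (centralizer_le ?_)
    · have a2 : t * g = g * t := hg t (by simp)
      have a3 : ∀ a ∈ zpowers J, a * g = g * a := fun a ha => by
        rcases hz a ha with rfl | rfl
        · simp
        · exact hg a (by simp)
      by_cases hy' : y ∈ zpowers J
      · exact a3 y hy'
      · obtain ⟨a, ha, rfl⟩ := ht.exists_eq_mul hy hy'
        rw [mul_assoc, a2, ← mul_assoc, a3 a ha, mul_assoc]
    · rintro x (rfl | rfl)
      · exact hJ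
      · exact ht.mem_τ
  have h' := h.of_notMem (mul_mem hJ h.mem_τ) (h.mul_τ_notMem hm)
  let t₁ : C := ⟨τ, hPC h.mem_τ⟩
  let t₂ : C := ⟨J * τ, hPC h'.mem_τ⟩
  have hπ : ∀ t s : C, (t : G) ∈ (P : Subgroup G) → IsConj t s → π s = t := fun t s ht hs => by
    obtain ⟨y, rfl⟩ := isConj_iff.1 hs
    rw [map_mul, map_mul, map_inv, hπ2 t ht, hc _ (hπ1 y) _ ht, mul_inv_cancel_right]
  have key : ∀ t s : C, IsDihPair P J t → IsConj t s →
      IsConj J (s : G) ∧ (s : G) ≠ J ∧ Commute J s := fun t s ht hs => by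
    refine ⟨(hone t (orderOf_eq_two_of_mul_self ht.mul_self fun e => ht.notMem
      (e ▸ one_mem _))).trans (C.subtype.map_isConj hs), fun e => ht.notMem ?_,
      (mem_centralizer_singleton_iff.1 s.2).symm⟩
    rw [← hπ t s ht.mem_τ hs, hπ2 s (by rw [e]; exact hJ), e]
    exact hm
  have hT : (univ.filter fun y => IsConj J y ∧ y ≠ J ∧ Commute J y) =
      (univ.filter (IsConj t₁) ∪ univ.filter (IsConj t₂)).map ⟨Subtype.val, Subtype.val_injective⟩ := by
    ext y
    simp only [mem_filter, mem_univ, true_and, Finset.mem_map, mem_union, Function.Embedding.coeFn_mk]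
    refine ⟨fun ⟨h1, h2, h3⟩ => ⟨⟨y, mem_centralizer_singleton_iff.2 h3.symm⟩, ?_, rfl⟩, ?_⟩
    · obtain ⟨x, hxC, hx⟩ := hπ4 ⟨y, mem_centralizer_singleton_iff.2 h3.symm⟩
      have hy2 := mul_self_of_isConj_of_orderOf hJ2 h1
      rw [pPart_eq_self_iff.2 (isPElt_two_of_mul_self hy2)] at hx
      have h4 : x * y * x⁻¹ ∉ zpowers J := fun h5 => by
        rcases hz _ h5 with h6 | h6
        · rw [conj_eq_one_iff] at h6
          rw [h6, isConj_one_left] at h1
          simp [h1] at hJ2
        · refine h2 ?_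
          rw [mul_inv_eq_iff_eq_mul, ← mem_centralizer_singleton_iff.1 hxC] at h6
          exact mul_left_cancel h6
      obtain ⟨a, ha, e⟩ := h.exists_eq_mul (hx ▸ hπ1 _) h4
      rcases hz a ha with rfl | rfl
      · exact Or.inl (IsConj.symm (isConj_iff.2 ⟨⟨x, hxC⟩, Subtype.ext (e.trans (one_mul _))⟩))
      · exact Or.inr (IsConj.symm (isConj_iff.2 ⟨⟨x, hxC⟩, Subtype.ext e⟩))
    · rintro ⟨s, hs | hs, rfl⟩
      exacts [key t₁ s h hs, key t₂ s h' hs]
  rw [hT, card_map, card_union_of_disjoint, card_filter_isConj, card_filter_isConj,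
    card_conj_centralizer, card_conj_centralizer, hcent τ h, hcent _ h', two_mul]
  rw [disjoint_filter]
  intro s _ h1 h2
  have := (hπ t₁ s h.mem_τ h1).symm.trans (hπ t₂ s h'.mem_τ h2)
  have h3 : J = 1 := by simpa [t₁, t₂] using this
  simp [h3] at hJ2

/-- A block with a Klein four Sylow subgroup as defect group. -/
theorem klein_block {M : Ideal AlgInt} (hM : IsPModular 2 M) {B : Set (IrrCharacter G)}
    (hB : IsPBlock M B) (P : Sylow 2 G) (hV : IsKleinFour (P : Subgroup G))
    (hD : IsDefectGroup 2 M B P) {t : G} (ht : orderOf t = 2) :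
    Nat.card B = 4 ∧ ((∃ x, ∀ χ ∈ B, χ 1 = x) ∨ ∃ s, ∀ χ ∈ B, χ t * χ t = s) := by
  classical
  haveI := Fintype.ofFinite P
  haveI := hM.charP
  obtain ⟨e, hP⟩ := (hB.isBlockIdem hM).exists_isMaxPair ((hB.isDefectGroup_iff hM P).1 hD)
  obtain ⟨S, X, Y, δ, ζ, a, h, o, h1, ha, h2⟩ := hP.exists_out_three_invol hM hB (fun x hx y hy =>
    congrArg Subtype.val (IsKleinFour.isMulCommutative.is_comm.comm (⟨y, hy⟩ : P) ⟨x, hx⟩))
    Exc.card_invol_of_isKleinFour (j := (P : Subgroup G).subtype) (MulEquiv.refl _) (fun _ => rfl)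
  have h3 := o.card_eq
  have h4 := o.cardY
  rw [← h1, hV.card_four] at h4
  have hδ : (δ : ℂ) * δ = 1 := by exact_mod_cast o.sq
  have ha' : ∀ χ ∈ X, (a χ : ℂ) * a χ = 1 := fun χ hχ => by
    rcases ha χ hχ with e | e <;> simp [e]
  refine ⟨by rcases h2 with h2 | h2 <;> rw [h2] at h3 h4 <;> omega, ?_⟩
  rcases h2 with h2 | h2
  · obtain ⟨η, hη⟩ := o.Y_nonempty h
    obtain ⟨χ₀, rfl⟩ := Set.ncard_eq_one.1 h2
    refine Or.inl ⟨η 1, fun χ hχ => ?_⟩
    rcases o.union ▸ hχ with rfl | hχ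
    · have h5 := o.reg_rel η hη 1 (by simp [IsPRegular])
      rw [finsum_mem_singleton] at h5
      have h6 : χ 1 * χ 1 = η 1 * η 1 := by
        linear_combination (a χ * χ 1 + δ * η 1) * h5 - χ 1 * χ 1 * ha' χ rfl + η 1 * η 1 * hδ
      rw [χ.apply_one, η.apply_one] at h6 ⊢
      exact_mod_cast Nat.mul_self_inj.1 (by exact_mod_cast h6)
    · exact o.reg_eq χ hχ η hη 1 (by simp [IsPRegular])
  · have h5 : Nat.card Y = 1 := by rw [h2] at h4; omega
    obtain ⟨η, rfl⟩ := Set.ncard_eq_one.1 h5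
    obtain ⟨s, hs⟩ : ∃ s, ∀ χ ∈ X ∪ {η}, ∀ c : ℂ, (∀ u, u ≠ 1 → excDec S χ.1 u = c) →
        χ t = c * s := ⟨(Nat.card (autOf (P : Subgroup G).subtype (N((P : Subgroup G)) ⊓
          GA.cjStab e)) : ℂ)⁻¹ * ∑ u, if u = 1 then 0 else S u t, fun χ hχ c hc => by
      have h6 := h.apply_eq_sum χ.isClassFunction (blockPart_irr_of_mem (o.union ▸ hχ)) (g := t)
        (by rw [IsPRegular, ht]; simp)
      change χ t = _ at h6
      rw [h6, sum_filter, mul_left_comm, mul_sum univ _ c]
      congr 1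
      refine sum_congr rfl fun u _ => ?_
      by_cases hu : u = 1 <;> simp [hu, hc]⟩
    refine Or.inr ⟨s * s, fun χ hχ => ?_⟩
    rcases o.union ▸ hχ with hχ | rfl
    · rw [hs χ (Or.inl hχ) _ (o.nonexc χ hχ), mul_mul_mul_comm, ha' χ hχ, one_mul]
    · rw [hs χ (Or.inr rfl) _ fun u hu => by simpa using o.sumY u hu, mul_mul_mul_comm]
      simp [hδ]

theorem four_mul_eq_aux {ι : Type*} (s : Finset ι) (hs : s.card = 4) {T n : ℝ} (hT : 0 < T)
    (hn : 0 < n) (r : ι → ℝ) (hr : ∀ i ∈ s, T * r i ^ 2 = 1 + n * r i)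
    (h : ∑ i ∈ s, r i = 0 ∨ ∑ i ∈ s, (r i)⁻¹ = 0) : 4 * T = 3 * n ^ 2 := by
  classical
  set d := √(n ^ 2 + 4 * T) with hd
  have hd2 : d ^ 2 = n ^ 2 + 4 * T := Real.sq_sqrt (by positivity)
  have hd0 : 0 ≤ d := Real.sqrt_nonneg _
  have hnd : n < d := by nlinarith
  have h1 : ∀ i ∈ s, 2 * T * r i - n = d ∨ 2 * T * r i - n = -d := fun i hi =>
    sq_eq_sq_iff_eq_or_eq_neg.1 (by linear_combination 4 * T * hr i hi - hd2)
  have h2 : ∑ i ∈ s, (2 * T * r i - n) =
      ((s.filter fun i => 2 * T * r i - n = d).card * 2 - 4 : ℝ) * d := by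
    rw [← sum_filter_add_sum_filter_not s fun i => 2 * T * r i - n = d,
      sum_congr rfl fun i hi => (mem_filter.1 hi).2,
      sum_congr rfl fun i hi => (h1 i (mem_filter.1 hi).1).resolve_left (mem_filter.1 hi).2,
      sum_const, sum_const, nsmul_eq_mul, nsmul_eq_mul]
    have := card_filter_add_card_filter_not (s := s) fun i => 2 * T * r i - n = d
    rw [hs] at this
    have h3 : ((s.filter fun i => 2 * T * r i - n = d).card : ℝ) +
      (s.filter fun i => ¬ 2 * T * r i - n = d).card = 4 := by exact_mod_cast this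
    linear_combination -d * h3
  have h4 : (s.filter fun i => 2 * T * r i - n = d).card ≤ 4 := hs ▸ card_filter_le _ _
  generalize (s.filter fun i => 2 * T * r i - n = d).card = j at h2 h4
  rw [sum_sub_distrib, ← mul_sum, sum_const, hs, nsmul_eq_mul] at h2
  rcases h with h | h
  · rw [h] at h2
    interval_cases j <;> push_cast at h2 <;> nlinarith
  · rw [sum_congr rfl (g := fun i => T * r i - n) fun i hi =>
      inv_eq_of_mul_eq_one_right (by linear_combination hr i hi), sum_sub_distrib, ← mul_sum,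
      sum_const, hs, nsmul_eq_mul] at h
    interval_cases j <;> push_cast at h h2 <;> nlinarith

theorem false_of_klein (hA : Ctr A) (h : InvBad A) (P : Sylow 2 G)
    (hP : Nat.card (P : Subgroup G) = 4) (hn : ¬ HasNormalPComplement 2 G)
    (hG : commutator G = ⊤) : False := by
  classical
  letI := Fintype.ofFinite G
  obtain ⟨M, hM⟩ := exists_isPModular Nat.prime_two
  obtain ⟨⟨J, hJ⟩, hJ2⟩ := exists_prime_orderOf_dvd_card' (G := (P : Subgroup G)) 2 (by rw [hP]; decide)
  rw [← Subgroup.orderOf_coe] at hJ2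
  change orderOf J = 2 at hJ2
  obtain ⟨hexp, hone⟩ := klein_of_not_hasNormalPComplement P hP hn hJ hJ2
  have hV : IsKleinFour (P : Subgroup G) := ⟨hP, by
    haveI : Nontrivial (P : Subgroup G) := Finite.one_lt_card_iff_nontrivial.1 (by omega)
    exact (Monoid.exponent_eq_prime_iff Nat.prime_two).2 fun g hg =>
      orderOf_eq_two_of_mul_self (Subtype.ext (hexp g g.2)) hg⟩
  have hab : (P : Subgroup G) ≤ C((P : Subgroup G)) := fun x hx y hy =>
    congrArg Subtype.val (IsKleinFour.isMulCommutative.is_comm.comm (⟨y, hy⟩ : P) ⟨x, hx⟩)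
  have hval : ∀ χ : IrrCharacter G, ∃ d : ℤ, χ J = d := fun χ => by
    obtain ⟨d, hd, -⟩ := χ.isCharacter.exists_int_of_sq_eq_one (g := J)
      (by rw [← hJ2, pow_orderOf_eq_one])
    exact ⟨d, hd⟩
  choose d hd using hval
  -- the block over `μ`
  obtain ⟨μ, hμ⟩ := hA.exists_faithful
  haveI := hA.normal
  obtain ⟨ψ, hψ, hψ2⟩ := exists_liesOver_not_dvd_of_sylow_le_inertia hA.odd P
    (θ := IrrCharacter.ofLinear μ) (by
      rw [inertia_eq_top_of_range_le_center (by simpa using hA.le)]; exact le_top)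
  have hψ' : ψ ∈ ovr μ := mem_filter.2 ⟨mem_univ _, hψ⟩
  have hB := isPBlock_blockOf (M := M) ψ
  have hF : ∀ χ ∈ blockOf M ψ.1, Faith A χ.1 := fun χ hχ => by
    refine faith_of_mem_over hA.le hμ (mem_over_of_apply fun a g => ?_)
    have hc : centralizer ({(a : G)} : Set G) = ⊤ :=
      eq_top_iff.2 fun x _ => mem_centralizer_singleton_iff.2 (hA.comm a.2 x)
    have e := (hM.sameBlock_iff ψ χ).1 hχ a
    simp only [centralChar, hc, index_top, Nat.cast_one, one_mul] at e
    have e2 := hM.eq_of_red_eq_of_pow (hA.not_two_dvd a.2)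
      (ψ.div_pow_eq_one_of_mem_center (hA.le a.2) (pow_orderOf_eq_one _))
      (χ.div_pow_eq_one_of_mem_center (hA.le a.2) (pow_orderOf_eq_one _)) e
    have e3 := apply_mul_of_mem_over hA.le hψ' a 1
    have e4 := χ.apply_mul_of_mem_center (hA.le a.2) g
    rw [mul_one] at e3
    rw [e3, mul_div_cancel_right₀ _ ψ.apply_one_ne_zero, eq_div_iff χ.apply_one_ne_zero] at e2
    rw [hA.comm a.2 g, ← e2] at e4
    exact mul_left_cancel₀ χ.apply_one_ne_zero (e4.trans (by ring))
  obtain ⟨hB4, hB'⟩ := klein_block hM hB P hV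
    ((hB.isDefectGroup_sylow_iff hM P).2 ⟨ψ, hM.mem_blockOf_self ψ, hψ2⟩) hJ2
  have horth := hB.finsum_mul_conj_eq_zero_of_regular hM (g := 1) (h := J) (by simp) (by rw [hJ2])
  rw [finsum_mem_irr_eq_sum] at horth
  set s := univ.filter fun χ : IrrCharacter G => χ ∈ blockOf M ψ.1 with hs
  set m := (C((P : Subgroup G))).relIndex (centralizer {J}) with hm
  set T := (centralizer ({J} : Set G)).index with hT
  have hx : ∀ χ : IrrCharacter G, (0 : ℝ) < charDegree χ.1 := fun χ => by
    exact_mod_cast χ.charDegree_pos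
  have hT0 : (0 : ℝ) < T := by exact_mod_cast index_pos _
  have hm0 : (0 : ℝ) < m := by exact_mod_cast Nat.pos_of_ne_zero index_ne_zero_of_finite
  have hq : ∀ χ ∈ s, (T : ℝ) * d χ * d χ =
      charDegree χ.1 * (charDegree χ.1 + (2 * m : ℕ) * d χ) := fun χ hχ => by
    have := h.quad hA P hab hJ2 hone (hF χ (mem_filter.1 hχ).2)
    rw [card_invol_comm P hP hn hJ hJ2, hd, χ.apply_one] at this
    exact_mod_cast this
  have horth' : ∑ χ ∈ s, (charDegree χ.1 : ℝ) * d χ = 0 := by
    simp only [hd, IrrCharacter.apply_one, map_intCast] at horth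
    exact_mod_cast horth
  have h43 := four_mul_eq_aux s (by
      rw [← hB4, Nat.card_eq_fintype_card, Fintype.card_subtype]) hT0
    (n := (2 * m : ℕ)) (by push_cast; positivity) (fun χ => d χ / charDegree χ.1)
    (fun χ hχ => by
      have := hx χ
      field_simp
      linear_combination hq χ hχ) (by
      rcases hB' with ⟨x, hx'⟩ | ⟨x, hx'⟩
      · left
        have e : ∀ χ ∈ s, charDegree χ.1 = charDegree ψ.1 := fun χ hχ => by
          have := (hx' χ (mem_filter.1 hχ).2).trans (hx' ψ (hM.mem_blockOf_self ψ)).symm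
          rw [χ.apply_one, ψ.apply_one] at this
          exact_mod_cast this
        rw [sum_congr rfl fun χ hχ => by rw [e χ hχ], ← mul_sum] at horth'
        rw [sum_congr rfl fun χ hχ => by rw [e χ hχ], ← sum_div,
          (mul_eq_zero.1 horth').resolve_left (hx ψ).ne', zero_div]
      · right
        have e : ∀ χ ∈ s, (d χ : ℝ) * d χ = d ψ * d ψ := fun χ hχ => by
          have := (hx' χ (mem_filter.1 hχ).2).trans (hx' ψ (hM.mem_blockOf_self ψ)).symm
          rw [hd, hd] at this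
          exact_mod_cast this
        rw [sum_congr rfl (g := fun χ => charDegree χ.1 * d χ / (d ψ * d ψ : ℝ)) fun χ hχ => ?_,
          ← sum_div, horth', zero_div]
        rw [← e χ hχ, inv_div]
        by_cases h0 : (d χ : ℝ) = 0
        · simp [h0]
        · field_simp)
  -- the principal block
  have h1 := Agent.S4479.count hM P hP hn hJ hJ2
  obtain ⟨τ, hτ⟩ := exists_isDihPair_of_card_four hP hexp hJ hJ2
  have h2 := hτ.finsum_mul hM P.isPGroup' P.not_dvd_index (mem_zpowers J) hJ2 (mem_zpowers J)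
    (mem_zpowers J) (by rintro rfl; simp at hJ2)
  rw [if_pos rfl, if_pos (inv_eq_of_mul_eq_one_right (hexp J hJ)).symm, hJ2,
    finsum_mem_irr_eq_sum] at h2
  rw [finsum_mem_irr_eq_sum, ← (centralizer ({J} : Set G)).card_mul_index, ← card_mul_relIndex
    (show C((P : Subgroup G)) ≤ centralizer {J} from centralizer_le (Set.singleton_subset_iff.2 hJ))] at h1
  set s₀ := univ.filter fun χ : IrrCharacter G => χ ∈ principalBlock M G with hs₀
  have h10 : IrrCharacter.one G ∈ s₀ := mem_filter.2 ⟨mem_univ _, hM.one_mem_principalBlock⟩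
  have hd1 : d (IrrCharacter.one G) = 1 := by
    have := hd (IrrCharacter.one G)
    rw [IrrCharacter.one_apply] at this
    exact_mod_cast this.symm
  simp only [hd, IrrCharacter.apply_one] at h1 h2
  have h2' : ∑ χ ∈ s₀.erase (IrrCharacter.one G), d χ * d χ = 3 := by
    have : ∑ χ ∈ s₀, d χ * d χ = 2 * (1 + 1) := by exact_mod_cast h2
    rw [← add_sum_erase _ _ h10, hd1] at this
    omega
  have hc0 : (0 : ℝ) < Nat.card C((P : Subgroup G)) := by exact_mod_cast Nat.card_pos
  have h1' : (T : ℝ) * ∑ χ ∈ s₀, (d χ : ℝ) ^ 3 / charDegree χ.1 = 8 * m ^ 2 := by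
    have : ((Nat.card C((P : Subgroup G)) * m * T : ℕ) : ℝ) * (Nat.card C((P : Subgroup G)) : ℝ) ^ 2 *
        ∑ χ ∈ s₀, (d χ : ℝ) ^ 3 / charDegree χ.1 = 8 * ((Nat.card C((P : Subgroup G)) * m : ℕ) : ℝ) ^ 3 := by
      exact_mod_cast h1
    push_cast at this
    refine mul_left_cancel₀ (a := (Nat.card C((P : Subgroup G)) : ℝ) ^ 3 * m) (by positivity) ?_
    linear_combination this
  have h3 : ∑ χ ∈ s₀, (d χ : ℝ) ^ 3 / charDegree χ.1 ≤ 1 + 3 / 2 := by
    rw [← add_sum_erase _ _ h10, hd1, show (3 : ℝ) = ((3 : ℤ) : ℝ) by simp, ← h2']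
    push_cast
    rw [sum_div]
    refine add_le_add (by simp) (sum_le_sum fun χ hχ => ?_)
    have e1 : d χ * d χ ≤ 3 := h2' ▸ single_le_sum (fun i _ => mul_self_nonneg (d i)) hχ
    have e2 : (d χ : ℝ) ≤ 1 := by exact_mod_cast (show d χ ≤ 1 by nlinarith)
    have e3 : (2 : ℝ) ≤ charDegree χ.1 := by
      have e4 : charDegree χ.1 ≠ 1 := fun e => by
        obtain ⟨f, hf⟩ := χ.isCharacter.exists_monoidHom (by
          have := χ.apply_one; rw [e] at this; exact_mod_cast this)
        refine (mem_erase.1 hχ).1 (Subtype.ext (hf.trans (funext fun g => ?_)))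
        have := Abelianization.commutator_subset_ker f (hG ▸ mem_top g)
        rw [MonoidHom.mem_ker.1 this]; rfl
      have := χ.charDegree_pos
      exact_mod_cast (show 2 ≤ charDegree χ.1 by omega)
    rw [div_le_div_iff₀ (hx χ) two_pos]
    nlinarith [mul_self_nonneg (d χ : ℝ)]
  push_cast at h43
  nlinarith

theorem isSolvable_of_commutator [Group.IsSolvable (commutator G)] : Group.IsSolvable G :=
  Group.isSolvable_of_ker_le_range (commutator G).subtype (Abelianization.of (G := G))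
    (by simp)

/-- If the elements of odd order inverted by involutions are bad and `8 ∤ |G|`, then `G` is
solvable. -/
theorem solvable_of_not_eight_dvd (n : ℕ) : ∀ (G : Type u) [Group G] [Finite G] (A : Subgroup G),
    Nat.card G = n → Ctr A → InvBad A → ¬ 8 ∣ Nat.card G → Group.IsSolvable G := by
  induction n using Nat.strong_induction_on with
  | _ n ih =>
  intro G _ _ A hn hA h h8
  by_cases hG : commutator G = ⊤
  · by_contra hs
    obtain ⟨P⟩ : Nonempty (Sylow 2 G) := inferInstance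
    have hN : ¬ HasNormalPComplement 2 G := fun h => hs h.isSolvable_two
    obtain ⟨k, hk⟩ := P.isPGroup'.exists_card_eq
    have h3 : k < 3 := not_le.1 fun h3 => h8 ((pow_dvd_pow 2 h3).trans (hk ▸ card_subgroup_dvd_card _))
    by_cases h2 : k = 2
    · exact false_of_klein hA h P (by rw [hk, h2]; rfl) hN hG
    · haveI : IsCyclic (P : Subgroup G) := isCyclic_of_card_dvd_prime (p := 2) (by
        rw [hk]; interval_cases k <;> simp_all)
      exact hN (hasNormalPComplement_two_of_isCyclic P)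
  · haveI := ih _ (hn ▸ card_lt_of_ne_top hG) (commutator G) _ rfl (hA.subgroupOf _)
      (h.normal hA _) fun e => h8 (e.trans (card_subgroup_dvd_card _))
    exact isSolvable_of_commutator

end Cfsg.Fr
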