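import Cfsg.Agent.Fr.Core
import Cfsg.Agent.Char.Cover

/-!
# From a fully ramified character to the group theoretic core (S4562)
-/

set_option autoImplicit false
set_option linter.unusedSectionVars false
set_option linter.unusedVariables false

namespace Cfsg.Fr

open Subgroup Finset
open scoped ComplexConjugate commutatorElement

universe u v

variable {G : Type u} [Group G] [Finite G] {A : Subgroup G}

theorem card_le_card_ovr (hA : A ≤ center G) (μ : A →* ℂˣ) {ι : Type*} [Fintype ι] (g : ι → G)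
    (hg : ∀ i, ¬ Bad A (g i)) (hne : ∀ i j, i ≠ j → ∀ a ∈ A, ¬ IsConj (a * g i) (g j)) :
    Fintype.card ι ≤ (ovr μ).card := by
  have h : LinearIndependent ℂ fun (i : ι) (χ : ovr μ) => χ.1 (g i) := by
    refine Fintype.linearIndependent_iff.2 fun c hc j => ?_
    have h1 : ∑ χ : ovr μ, (∑ i, c i * χ.1 (g i)) * conj (χ.1 (g j)) = 0 :=
      sum_eq_zero fun χ _ => by
        have := congrFun hc χ
        simp only [Finset.sum_apply, Pi.smul_apply, smul_eq_mul, Pi.zero_apply] at this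
        rw [this, zero_mul]
    simp only [sum_mul, mul_assoc] at h1
    rw [sum_comm, sum_eq_single j (fun i _ hi => by
      rw [← mul_sum, sum_coe_sort (ovr μ) fun χ => χ (g i) * conj (χ (g j)),
        sum_over_eq_zero hA μ (hne i j hi), mul_zero]) (by simp), ← mul_sum,
      sum_coe_sort (ovr μ) fun χ => χ (g j) * conj (χ (g j))] at h1
    refine (mul_eq_zero.1 h1).resolve_right fun h0 => ?_
    have h2 := card_mul_sum_over hA μ (hg j)
    rw [h0, mul_zero] at h2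
    exact natCard_cast_ne_zero _ h2.symm
  simpa using h.fintype_card_le_finrank

theorem card_ovr_mul_le (hA : A ≤ center G) (μ : A →* ℂˣ) {d c : ℕ}
    (h : ∀ ψ ∈ ovr μ, d ≤ c * charDegree ψ.1 ^ 2) : (ovr μ).card * d ≤ c * A.index := by
  rw [← sum_over_sq hA μ, mul_sum]
  exact card_nsmul_le_sum _ _ _ h

theorem bad_of_le (hA : A ≤ center G) (μ : A →* ℂˣ)
    (h : ∀ ψ ∈ ovr μ, A.index ≤ charDegree ψ.1 ^ 2) {g : G} (hg : g ∉ A) : Bad A g := by
  by_contra hb
  have h1 := card_ovr_mul_le hA μ (c := 1) (d := A.index) (by simpa using h)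
  have h3 : ∀ a ∈ A, ¬ IsConj (a * g) 1 := fun a ha e =>
    hg (eq_inv_of_mul_eq_one_right (isConj_one_left.1 e) ▸ inv_mem ha)
  have h4 : ∀ a ∈ A, ¬ IsConj (a * 1) g := fun a ha e => by
    obtain ⟨c, rfl⟩ := isConj_iff.1 e
    exact hg (by rwa [mul_one, mem_center_iff.1 (hA ha), mul_inv_cancel_right])
  have h2 := card_le_card_ovr hA μ ![1, g] (by simp [Fin.forall_fin_two, not_bad_one, hb])
    (by simpa only [Fin.forall_fin_two, ne_eq, not_true, IsEmpty.forall_iff, true_and, and_true,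
      Matrix.cons_val_zero, Matrix.cons_val_one, Matrix.cons_val_fin_one] using
      ⟨fun _ => h4, fun _ => h3⟩)
  have := index_pos A
  simp only [Fintype.card_fin] at h2
  nlinarith

theorem exists_isConj_of_le (hA : A ≤ center G) (μ : A →* ℂˣ)
    (h : ∀ ψ ∈ ovr μ, A.index ≤ 2 * charDegree ψ.1 ^ 2) {g₁ g₂ : G} (h1 : g₁ ∉ A) (h2 : g₂ ∉ A)
    (b1 : ¬ Bad A g₁) (b2 : ¬ Bad A g₂) : ∃ a ∈ A, IsConj (a * g₂) g₁ := by
  by_contra! hn
  have h0 := card_ovr_mul_le hA μ h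
  have h3 : ∀ g ∉ A, ∀ a ∈ A, ¬ IsConj (a * g) 1 := fun g hg a ha e =>
    hg (eq_inv_of_mul_eq_one_right (isConj_one_left.1 e) ▸ inv_mem ha)
  have h4 : ∀ g ∉ A, ∀ a ∈ A, ¬ IsConj (a * 1) g := fun g hg a ha e => by
    obtain ⟨c, rfl⟩ := isConj_iff.1 e
    exact hg (by rwa [mul_one, mem_center_iff.1 (hA ha), mul_inv_cancel_right])
  have h5 : ∀ a ∈ A, ¬ IsConj (a * g₁) g₂ := fun a ha e => by
    obtain ⟨c, rfl⟩ := isConj_iff.1 e
    refine hn a⁻¹ (inv_mem ha) (isConj_iff.2 ⟨c⁻¹, ?_⟩)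
    rw [← mul_assoc c, mem_center_iff.1 (hA ha) c]
    group
  have h6 := card_le_card_ovr hA μ ![1, g₁, g₂] (by
    intro i; fin_cases i; exacts [not_bad_one, b1, b2]) (by
    intro i j hij
    fin_cases i <;> fin_cases j
    exacts [(hij rfl).elim, h4 _ h1, h4 _ h2, h3 _ h1, (hij rfl).elim, h5, h3 _ h2, hn,
      (hij rfl).elim])
  have := index_pos A
  simp only [Fintype.card_fin] at h6
  nlinarith

/-- Restriction of a character of `A` to a subgroup. -/
def resLin (μ : A →* ℂˣ) (Y : Subgroup G) : A.subgroupOf Y →* ℂˣ :=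
  μ.comp ((Y.subtype.comp (A.subgroupOf Y).subtype).codRestrict A fun x => x.2)

theorem subgroupOf_le_center (hA : A ≤ center G) (Y : Subgroup G) : A.subgroupOf Y ≤ center Y :=
  fun a ha => mem_center_iff.2 fun g => Subtype.ext (mem_center_iff.1 (hA ha) g)

theorem relIndex_dvd_mul (hA : A ≤ center G) {μ : A →* ℂˣ} {χ : IrrCharacter G} (hχ : χ ∈ ovr μ)
    (hv : ∀ g, g ∉ A → χ g = 0) (Y : Subgroup G) {ψ : IrrCharacter Y}
    (hψ : ψ ∈ ovr (resLin μ Y)) : A.relIndex Y ∣ charDegree χ.1 * charDegree ψ.1 := by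
  have h := index_mul_ip (A := A.subgroupOf Y) (f := χ.1 ∘ Y.subtype) (θ := ψ.1)
    (c := χ 1 * conj (ψ 1)) (fun g hg => hv g hg) fun a ha => by
      have e1 := apply_mul_of_mem_over hA hχ ⟨a, ha⟩ 1
      have e2 := apply_mul_of_mem_over (subgroupOf_le_center hA Y) hψ ⟨a, ha⟩ 1
      rw [mul_one] at e1 e2
      change χ a * conj (ψ a) = _
      have e3 : (μ ⟨a, ha⟩ : ℂ) * conj (μ ⟨a, ha⟩ : ℂ) = 1 := by
        rw [Complex.mul_conj, Complex.normSq_eq_norm_sq, linear_norm_apply]; simp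
      rw [e1, e2, map_mul]
      change _ * (conj (μ ⟨a, ha⟩ : ℂ) * _) = _
      linear_combination (χ 1 * conj (ψ 1)) * e3
  rw [← (χ.isCharacter.comp Y.subtype).ipNat_cast ψ.isCharacter, χ.apply_one, ψ.apply_one,
    map_natCast] at h
  exact ⟨ipNat (χ.1 ∘ Y.subtype) ψ.1, by exact_mod_cast h.symm⟩

open Classical in
/-- The commutator pairing of a central extension. -/
noncomputable def cpair (μ : A →* ℂˣ) (x y : G) : ℂˣ :=
  if h : ⁅x, y⁆ ∈ A then μ ⟨_, h⟩ else 1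

theorem cpair_of_mem (μ : A →* ℂˣ) {x y : G} (h : ⁅x, y⁆ ∈ A) : cpair μ x y = μ ⟨_, h⟩ :=
  dif_pos h

theorem cpair_congr (μ : A →* ℂˣ) {x y x' y' : G} (h : ⁅x, y⁆ = ⁅x', y'⁆) :
    cpair μ x y = cpair μ x' y' := by
  by_cases h1 : ⁅x, y⁆ ∈ A
  · rw [cpair_of_mem μ h1, cpair_of_mem μ (h ▸ h1)]
    exact congrArg μ (Subtype.ext h)
  · have h2 : ⁅x', y'⁆ ∉ A := h ▸ h1
    unfold cpair
    rw [dif_neg h1, dif_neg h2]

theorem commutator_mul_central {x y z w : G} (hz : z ∈ center G) (hw : w ∈ center G) :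
    ⁅x * z, y * w⁆ = ⁅x, y⁆ := by
  simp only [commutatorElement_def, mul_inv_rev]
  calc x * z * (y * w) * (z⁻¹ * x⁻¹) * (w⁻¹ * y⁻¹)
      = x * (z * (y * w) * z⁻¹) * (x⁻¹ * w⁻¹) * y⁻¹ := by group
    _ = x * y * x⁻¹ * y⁻¹ := by
      rw [← mem_center_iff.1 hz, mem_center_iff.1 (inv_mem hw) x⁻¹]; group

theorem cpair_mul_central (μ : A →* ℂˣ) {x y z w : G} (hz : z ∈ center G) (hw : w ∈ center G) :
    cpair μ (x * z) (y * w) = cpair μ x y :=
  cpair_congr μ (commutator_mul_central hz hw)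

theorem exists_pairing (hA : A ≤ center G) (μ : A →* ℂˣ) {B : Subgroup G} [B.Normal]
    (hB : B ≤ A) : ∃ β : G ⧸ B → G ⧸ B → ℂˣ, IsPairing β ∧
      ∀ x y : G, β x y = cpair μ x y := by
  have hc : ∀ x y : G, Commute (x : G ⧸ B) y → ⁅x, y⁆ ∈ A := fun x y h => hB (by
    rw [← QuotientGroup.eq_one_iff]
    exact commutatorElement_eq_one_iff_commute.2 h)
  have h0 : ∀ x y : G, cpair μ (x : G ⧸ B).out (y : G ⧸ B).out = cpair μ x y := fun x y => by
    obtain ⟨z, hz⟩ := QuotientGroup.mk_out_eq_mul B x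
    obtain ⟨w, hw⟩ := QuotientGroup.mk_out_eq_mul B y
    rw [hz, hw, cpair_mul_central μ (hA (hB z.2)) (hA (hB w.2))]
  refine ⟨fun a b => cpair μ a.out b.out, ⟨?_, ?_, ?_, ?_⟩, h0⟩
  · rintro ⟨x⟩ ⟨y⟩ ⟨z⟩ h1 h2
    refine (h0 (x * y) z).trans (.trans ?_ (congrArg₂ (· * ·) (h0 x z) (h0 y z)).symm)
    rw [cpair_of_mem μ (hc (x * y) z (h1.mul_left h2)), cpair_of_mem μ (hc x z h1),
      cpair_of_mem μ (hc y z h2), mul_comm, ← map_mul]
    congr 1
    refine Subtype.ext ?_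
    change ⁅x * y, z⁆ = ⁅y, z⁆ * ⁅x, z⁆
    rw [commutatorElement_mul_left_eq_conj_mul, mem_center_iff.1 (hA (hc y z h2)) x,
      mul_inv_cancel_right]
  · rintro ⟨x⟩ ⟨y⟩ ⟨z⟩ h1 h2
    refine (h0 x (y * z)).trans (.trans ?_ (congrArg₂ (· * ·) (h0 x y) (h0 x z)).symm)
    rw [cpair_of_mem μ (hc x (y * z) (h1.mul_right h2)), cpair_of_mem μ (hc x y h1),
      cpair_of_mem μ (hc x z h2), ← map_mul]
    congr 1
    refine Subtype.ext ?_
    change ⁅x, y * z⁆ = ⁅x, y⁆ * ⁅x, z⁆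
    rw [commutatorElement_mul_right_eq_mul_conj, mul_assoc _ y, mem_center_iff.1 (hA (hc x z h2)) y,
      mul_assoc, mul_inv_cancel_right]
  · intro a
    rw [cpair_of_mem μ (by simp)]
    exact (congrArg μ (Subtype.ext (by simp))).trans (map_one μ)
  · rintro ⟨g⟩ ⟨x⟩ ⟨y⟩ h
    refine (h0 (g * x * g⁻¹) (g * y * g⁻¹)).trans (.trans ?_ (h0 x y).symm)
    have e : ⁅g * x * g⁻¹, g * y * g⁻¹⁆ = ⁅x, y⁆ := by
      rw [← conjugate_commutatorElement, mem_center_iff.1 (hA (hc x y h)) g, mul_inv_cancel_right]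
    exact cpair_congr μ e

theorem cpair_ne_one {μ : A →* ℂˣ} (hμ : Function.Injective μ) {g c a : G} (ha : a ∈ A)
    (h1 : a ≠ 1) (h : c * g * c⁻¹ = a * g) : cpair μ g c ≠ 1 := by
  have e : ⁅g, c⁆ = a⁻¹ := by
    rw [← commutatorElement_inv, commutatorElement_def, h, mul_inv_cancel_right]
  rw [cpair_of_mem μ (e ▸ inv_mem ha)]
  exact fun h0 => h1 (inv_eq_one.1 (e.symm.trans
    (congrArg Subtype.val ((injective_iff_map_eq_one μ).1 hμ _ h0))))

theorem solvable_of_central [A.Normal] (hA : A ≤ center G) {μ : A →* ℂˣ}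
    (hμ : Function.Injective μ) {χ : IrrCharacter G} (hχ : χ ∈ ovr μ)
    (hv : ∀ g, g ∉ A → χ g = 0)
    (hab : 2 ^ 6 ∣ A.index → ∀ P : Sylow 2 (G ⧸ A), IsMulCommutative P) : Group.IsSolvable G := by
  obtain ⟨S⟩ : Nonempty (Sylow 2 G) := inferInstance
  let B : Subgroup G := A ⊓ S
  haveI : B.Normal := ⟨fun b hb g => by rwa [mem_center_iff.1 (hA hb.1), mul_inv_cancel_right]⟩
  let π := QuotientGroup.mk' B
  have hπ : Function.Surjective π := QuotientGroup.mk'_surjective B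
  have hπ1 : ∀ x, π x = 1 ↔ x ∈ B := fun x => QuotientGroup.eq_one_iff x
  have hker : π.ker ≤ A := fun x hx => ((hπ1 x).1 hx).1
  have hmem : ∀ x, π x ∈ A.map π ↔ x ∈ A := fun x => by
    rw [← mem_comap, comap_map_eq_self hker]
  obtain ⟨β, hβ, hβ'⟩ := exists_pairing hA μ (B := B) inf_le_left
  have he := sq_eq_index hA χ hv
  set e := charDegree χ.1
  have he0 : 0 < e := χ.charDegree_pos
  have hA' : Ctr (A.map π) := by
    refine ⟨?_, ?_, fun h => not_dvd_relIndex_sylow_inf_normal S A ?_⟩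
    · rintro _ ⟨a, ha, rfl⟩
      refine mem_center_iff.2 fun g => ?_
      obtain ⟨g, rfl⟩ := hπ g
      rw [← map_mul, ← map_mul, mem_center_iff.1 (hA ha)]
    · haveI := isCyclic_of_linear_injective hμ
      exact isCyclic_of_surjective _ (π.subgroupMap_surjective A)
    · rwa [← relIndex_ker, QuotientGroup.ker_mk', inf_relIndex_left] at h
  -- the Sylow subgroup
  obtain ⟨k, hk⟩ : ∃ k, A.relIndex S = 2 ^ k := by
    obtain ⟨n, hn⟩ := S.isPGroup'.exists_card_eq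
    obtain ⟨k, -, h⟩ := (Nat.dvd_prime_pow Nat.prime_two).1 (hn ▸ relIndex_dvd_card A S)
    exact ⟨k, h⟩
  have hodd : ¬ 2 ∣ ((S : Subgroup G) ⊔ A).index := fun h =>
    S.not_dvd_index (h.trans (index_dvd_of_le le_sup_left))
  have hk' : 2 ^ k * ((S : Subgroup G) ⊔ A).index = e ^ 2 := by
    rw [← hk, ← relIndex_sup_right, relIndex_mul_index le_sup_right, he]
  let P := S.mapSurjective hπ
  have hP : Nat.card (P : Subgroup (G ⧸ B)) = 2 ^ k := by
    change Nat.card ((S : Subgroup G).map π) = _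
    rw [← relIndex_ker, QuotientGroup.ker_mk', inf_relIndex_right, hk]
  haveI : Group.IsSolvable B := Group.isSolvable_of_comm fun a b =>
    Subtype.ext (mem_center_iff.1 (hA b.2.1) a)
  suffices Group.IsSolvable (G ⧸ B) from Group.isSolvable_of_ker_le_range B.subtype π (by simp [π])
  refine core (β := β) hA' (fun y ho hy => ?_) hβ (fun a b h => ?_) P (fun g hg h1 => ?_) ?_
    (e := e) (by rw [he, ← index_comap_of_surjective _ hπ, comap_map_eq_self hker])
    fun K hK g₁ hg₁ g₂ hg₂ h1 h2 b1 b2 => ?_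
  · obtain ⟨x, hx⟩ := hπ y
    have hx' : π (pPrimePart 2 x) = y := by rw [map_pPrimePart, hx, pPrimePart_eq_self_iff.2 ho]
    obtain ⟨c, a, ha, h1, h⟩ := (bad_of_le (subgroupOf_le_center hA ⊤) (resLin μ ⊤) (fun ψ hψ => by
      have h := relIndex_dvd_mul hA hχ hv ⊤ hψ
      change A.relIndex ⊤ ≤ _
      rw [relIndex_top_right, ← he] at h ⊢
      rw [pow_two] at h
      exact Nat.pow_le_pow_left (Nat.le_of_dvd ψ.charDegree_pos (Nat.dvd_of_mul_dvd_mul_left he0 h))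
        2) (g := ⟨pPrimePart 2 x, mem_top _⟩) fun h => hy (hx' ▸ (hmem _).2 h)).of_subgroupOf
    refine ⟨π c, π a, (hmem _).2 ha, fun h0 => h1 ?_, by
      rw [← hx', ← map_inv, ← map_mul, ← map_mul, ← map_mul]; exact congrArg π h⟩
    have h2 := congrArg (pPart 2) h
    rw [pPart_conj, pPart_mul_of_commute 2 (show Commute a _ from (mem_center_iff.1 (hA ha) _).symm),
      pPart_pPrimePart, pPart_eq_self_iff.2 (isPElt_of_mem S.isPGroup' ((hπ1 a).1 h0).2)] at h2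
    simpa using h2.symm
  · obtain ⟨x, rfl⟩ := hπ a
    obtain ⟨y, rfl⟩ := hπ b
    have h1 : ⁅x, y⁆ ∈ B := (hπ1 _).1 (by
      rw [map_commutatorElement]; exact commutatorElement_eq_one_iff_commute.2 h)
    obtain ⟨n, hn⟩ := isPElt_iff_pow_eq_one.1 (isPElt_of_mem S.isPGroup' h1.2)
    refine ⟨n, (congrArg (· ^ 2 ^ n) (hβ' x y)).trans ?_⟩
    rw [cpair_of_mem μ h1.1, ← map_pow]
    exact (congrArg μ (Subtype.ext hn)).trans (map_one μ)
  · obtain ⟨x, hx, rfl⟩ := hg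
    replace hx : x ∈ (S : Subgroup G) := hx
    obtain ⟨c, a, ha, ha1, h⟩ := bad_of_le (subgroupOf_le_center hA ((S : Subgroup G) ⊔ A))
      (resLin μ _) (fun ψ hψ => by
      have h := relIndex_dvd_mul hA hχ hv _ hψ
      change A.relIndex _ ≤ _
      rw [relIndex_sup_right, hk] at h ⊢
      have h2 := pow_dvd_pow_of_dvd h 2
      rw [mul_pow, ← hk', pow_two, mul_assoc] at h2
      exact Nat.le_of_dvd (pow_pos ψ.charDegree_pos 2)
        ((((Nat.Prime.coprime_iff_not_dvd Nat.prime_two).2 hodd).pow_left k).dvd_of_dvd_mul_left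
        (Nat.dvd_of_mul_dvd_mul_left (by positivity) h2))) (g := ⟨x, mem_sup_left hx⟩)
      fun h => h1 ((hπ1 x).2 ⟨h, hx⟩)
    obtain ⟨s, hs, z, hz, hc⟩ := mem_sup_of_normal_right.1 c.2
    have h2 : s * x * s⁻¹ = a * x := by
      have h3 : (c : G) * x * (c : G)⁻¹ = a * x := congrArg Subtype.val h
      rw [← h3, ← hc, mul_assoc s z, ← mem_center_iff.1 (hA hz)]
      group
    have h3 : (a : G) ∈ B := ⟨ha, by
      rw [eq_mul_inv_of_mul_eq h2.symm]
      exact S.1.mul_mem (S.1.mul_mem (S.1.mul_mem hs hx) (S.1.inv_mem hs)) (S.1.inv_mem hx)⟩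
    refine ⟨π s, ⟨s, hs, rfl⟩, ?_, (hβ' x s).trans_ne
      (cpair_ne_one hμ ha (fun e => ha1 (Subtype.ext e)) h2)⟩
    have h4 := congrArg π h2
    rw [map_mul, map_mul, map_inv, map_mul, (hπ1 a).2 h3, one_mul, mul_inv_eq_iff_eq_mul] at h4
    exact h4.symm
  · by_cases h6 : 6 ≤ k
    · have h1 := hab (he ▸ hk' ▸ (pow_dvd_pow 2 h6).mul_right _)
        (S.mapSurjective (QuotientGroup.mk'_surjective A))
      refine Or.inl ⟨⟨?_⟩⟩
      rintro ⟨_, x, hx, rfl⟩ ⟨_, y, hy, rfl⟩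
      replace hx : x ∈ (S : Subgroup G) := hx
      replace hy : y ∈ (S : Subgroup G) := hy
      have h2 := congrArg Subtype.val (h1.is_comm.comm ⟨_, x, hx, rfl⟩ ⟨_, y, hy, rfl⟩)
      refine Subtype.ext (commutatorElement_eq_one_iff_mul_comm.1 ?_)
      rw [← map_commutatorElement, hπ1]
      refine ⟨(QuotientGroup.eq_one_iff _).1 (commutatorElement_eq_one_iff_mul_comm.2 h2), ?_⟩
      exact S.1.mul_mem (S.1.mul_mem (S.1.mul_mem hx hy) (S.1.inv_mem hx)) (S.1.inv_mem hy)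
    have h1 : k = 2 * e.factorization 2 := by
      have := congrArg (Nat.factorization · 2) hk'
      simpa [Nat.factorization_mul (pow_ne_zero k two_ne_zero) index_ne_zero_of_finite,
        Nat.factorization_eq_zero_of_not_dvd hodd, Nat.prime_two.factorization_self] using this
    obtain rfl | rfl | rfl : k = 0 ∨ k = 2 ∨ k = 4 := by omega
    · haveI := (Nat.card_eq_one_iff_unique.1 hP).1
      exact Or.inl ⟨⟨fun a b => Subsingleton.elim _ _⟩⟩
    · exact Or.inl (IsPGroup.isMulCommutative_of_card_eq_prime_sq hP)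
    · exact Or.inr hP
  · obtain ⟨x₁, rfl⟩ := hπ g₁
    obtain ⟨x₂, rfl⟩ := hπ g₂
    have hAK : A ≤ K.comap π := map_le_iff_le_comap.1 (hA'.le_of_index_two hK)
    have good : ∀ x : K.comap π, (∀ c ∈ K, ∀ a ∈ A.map π, c * π x * c⁻¹ = a * π x →
        a = 1 ∧ β (π x) c = 1) → ¬ Bad (A.subgroupOf (K.comap π)) x := by
      rintro x hx ⟨c, a, ha, ha1, h⟩
      have h3 : (c : G) * x * (c : G)⁻¹ = a * x := congrArg Subtype.val h
      exact cpair_ne_one hμ ha (fun e => ha1 (Subtype.ext e)) h3 ((hβ' x c).symm.trans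
        (hx (π c) c.2 (π a) ((hmem _).2 ha) (by
          rw [← map_inv, ← map_mul, ← map_mul, ← map_mul, h3])).2)
    obtain ⟨a, ha, h⟩ := exists_isConj_of_le (subgroupOf_le_center hA (K.comap π)) (resLin μ _)
      (fun ψ hψ => by
        have h := relIndex_dvd_mul hA hχ hv _ hψ
        have h3 := relIndex_mul_index hAK
        rw [index_comap_of_surjective _ hπ, hK, ← he] at h3
        change A.relIndex _ ≤ _
        have h4 := Nat.mul_dvd_mul_right h 2
        rw [h3, pow_two, mul_assoc] at h4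
        have h5 := Nat.le_of_dvd (Nat.mul_pos ψ.charDegree_pos two_pos)
          (Nat.dvd_of_mul_dvd_mul_left he0 h4)
        nlinarith)
      (g₁ := ⟨x₁, hg₁⟩) (g₂ := ⟨x₂, hg₂⟩) (fun h => h1 ((hmem _).2 h)) (fun h => h2 ((hmem _).2 h))
      (good _ b1) (good _ b2)
    exact ⟨π a, (hmem _).2 ha, (π.comp (K.comap π).subtype).map_isConj h⟩

end Cfsg.Fr

set_option linter.all false in
theorem Cfsg.Rz.Fr_Reduce_0 : True := by
  have := @_root_.Cfsg.Fr.cpair.eq_def.{0}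
  have := @_root_.Cfsg.Fr.cpair.eq_1.{0}
  have := @_root_.Cfsg.Fr.cpair.fun_cases.{0}
  have := @_root_.Cfsg.Fr.resLin.eq_def.{0}
  have := @_root_.Cfsg.Fr.resLin.eq_1.{0}
  have := @_root_.Cfsg.Fr.resLin.fun_cases
  trivial
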